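import Cfsg.Agent.Lib.AxialDesign.Basic
import Cfsg.Agent.Lib.CharInt.FrobeniusKernel

/-!
# Axial automorphisms of a doubly transitive symmetric design

A nontrivial automorphism fixing a block pointwise fixes at most one further point. Those with no
further fixed point form, together with `1`, a subgroup `E B`.
-/

set_option autoImplicit false
set_option linter.unusedSectionVars false

open scoped Classical Pointwise
open MulAction

namespace Cfsg.Agent.AxialDesign

namespace Sys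

variable {G P β : Type*} [Group G] [MulAction G P] [MulAction G β] (S : Sys G P β)

include S in
theorem nonempty_pts : 0 < Nat.card P := by have := S.two_le_compl; omega

include S in
theorem two_le_k : 2 ≤ S.k := by have := S.lam_add_two; omega

include S in
theorem lam_lt : S.lam < S.k := by have := S.lam_add_two; omega

variable [Finite P] [Finite β]

theorem pts_inj : Function.Injective S.pts := by
  intro X Y h
  by_contra hne
  have := S.card_inter X Y hne
  rw [h, Set.inter_self, S.card_pts] at this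
  have := S.lam_lt
  omega

theorem mem_smul_iff (g : G) (x : P) (X : β) : x ∈ S.pts (g • X) ↔ g⁻¹ • x ∈ S.pts X := by
  rw [← S.smul_mem g (g⁻¹ • x) X, smul_inv_smul]

theorem mem_smul_of_fix {g : G} {x : P} {X : β} (hx : g • x = x) :
    x ∈ S.pts (g • X) ↔ x ∈ S.pts X := by
  conv_lhs => rw [← hx]
  rw [S.smul_mem]

theorem fix_block {g : G} {X : β} (h : ∀ x ∈ S.pts X, g • x = x) : g • X = X := by
  apply S.pts_inj
  refine (Set.eq_of_subset_of_ncard_le (fun x hx => ?_) ?_ (Set.toFinite _)).symm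
  · exact (S.mem_smul_of_fix (h x hx)).2 hx
  · rw [S.card_pts, S.card_pts]

/-- The blocks fixed by `σ`. -/
def Fb (_ : Sys G P β) (σ : G) : Set β := {X | σ • X = X}

omit [Finite P] [Finite β] in
theorem mem_Fb {σ : G} {X : β} : X ∈ S.Fb σ ↔ σ • X = X := Iff.rfl

include S in
theorem eq_one_of_Fb [FaithfulSMul G P] {g : G} (h : ∀ X : β, g • X = X) : g = 1 := by
  have hall : {X : β | g • X = X} = Set.univ := Set.eq_univ_of_forall h
  have h1 := S.fixed_eq g
  rw [hall, Set.ncard_univ, S.card_eq] at h1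
  have h2 : {x : P | g • x = x} = Set.univ :=
    Set.eq_of_subset_of_ncard_le (Set.subset_univ _) (by rw [h1, Set.ncard_univ]) (Set.toFinite _)
  exact eq_of_smul_eq_smul (α := P) fun x => by
    rw [one_smul]
    exact Set.eq_univ_iff_forall.1 h2 x

/-- A moved block meets its image in its intersection with the axis. -/
theorem inter_eq {σ : G} {B X : β} (hB : ∀ x ∈ S.pts B, σ • x = x) (hX : σ • X ≠ X) :
    S.pts X ∩ S.pts (σ • X) = S.pts X ∩ S.pts B := by
  have hXB : X ≠ B := by rintro rfl; exact hX (S.fix_block hB)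
  symm
  refine Set.eq_of_subset_of_ncard_le (fun x hx => ⟨hx.1, ?_⟩) ?_ (Set.toFinite _)
  · exact (S.mem_smul_of_fix (hB x hx.2)).2 hx.1
  · rw [S.card_inter _ _ hX.symm, S.card_inter _ _ hXB]

theorem mem_of_fixed {σ : G} {B X : β} {x : P} (hB : ∀ x ∈ S.pts B, σ • x = x) (hX : σ • X ≠ X)
    (hx : x ∈ S.pts X) (hfx : σ • x = x) : x ∈ S.pts B := by
  have h : x ∈ S.pts X ∩ S.pts (σ • X) := ⟨hx, (S.mem_smul_of_fix hfx).2 hx⟩
  rw [S.inter_eq hB hX] at h
  exact h.2

/-- At most one fixed point lies off the axis. -/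
theorem one_outside [FaithfulSMul G P] {σ : G} {B : β} (hσ : σ ≠ 1) (hB : ∀ x ∈ S.pts B, σ • x = x)
    {a b : P} (ha : σ • a = a) (hb : σ • b = b) (haB : a ∉ S.pts B) (hbB : b ∉ S.pts B) : a = b := by
  by_contra hab
  -- `Th a x` : the blocks through `a` and `x`
  let Th : P → P → Set β := fun u v => {X | u ∈ S.pts X ∧ v ∈ S.pts X}
  have key : ∀ u v : P, σ • u = u → σ • v = v → u ∉ S.pts B → v ∉ S.pts B → u ≠ v →
      ∀ x, σ • x ≠ x → Th u v = Th x u := by
    have h1 : ∀ u : P, σ • u = u → u ∉ S.pts B → ∀ x, σ • x ≠ x → Th x u = Th x (σ • x) := by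
      intro u hu huB x hx
      have hxu : x ≠ u := by rintro rfl; exact hx hu
      refine Set.eq_of_subset_of_ncard_le (fun X hX => ⟨hX.1, ?_⟩) ?_ (Set.toFinite _)
      · have hf : σ • X = X := by
          by_contra hne
          exact huB (S.mem_of_fixed hB hne hX.2 hu)
        rw [← hf, S.smul_mem]
        exact hX.1
      · rw [S.card_pair _ _ hxu, S.card_pair _ _ (Ne.symm hx)]
    intro u v hu hv huB hvB huv x hx
    have hxu : x ≠ u := by rintro rfl; exact hx hu
    symm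
    refine Set.eq_of_subset_of_ncard_le (fun X hX => ⟨hX.2, ?_⟩) ?_ (Set.toFinite _)
    · have : X ∈ Th x v := by rw [h1 v hv hvB x hx, ← h1 u hu huB x hx]; exact hX
      exact this.2
    · rw [S.card_pair _ _ huv, S.card_pair _ _ hxu]
  obtain ⟨x, hx⟩ : ∃ x : P, σ • x ≠ x := by
    by_contra! hall
    exact hσ (eq_of_smul_eq_smul (α := P) fun x => by rw [hall, one_smul])
  obtain ⟨C, haC, hbC⟩ : ∃ C, a ∈ S.pts C ∧ b ∉ S.pts C := by
    by_contra! hall
    have : ({X | a ∈ S.pts X} : Set β).ncard ≤ S.lam := by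
      rw [← S.card_pair a b hab]
      exact Set.ncard_le_ncard (fun X hX => ⟨hX, hall X hX⟩) (Set.toFinite _)
    rw [S.card_blks] at this
    have := S.lam_lt
    omega
  have hCfix : ∀ y ∈ S.pts C, σ • y = y := by
    intro y hy
    by_contra hy'
    have : C ∈ Th a b := by rw [key a b ha hb haB hbB hab y hy']; exact ⟨hy, haC⟩
    exact hbC this.2
  have hCB : C ≠ B := by rintro rfl; exact haB haC
  obtain ⟨a', ⟨ha'C, ha'B⟩, ha'a⟩ : ∃ a' ∈ S.pts C \ S.pts B, a' ≠ a := by
    apply Set.exists_ne_of_one_lt_ncard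
    have := Set.ncard_inter_add_ncard_sdiff_eq_ncard (S.pts C) (S.pts B) (Set.toFinite _)
    rw [S.card_pts, S.card_inter C B hCB] at this
    have := S.lam_add_two
    omega
  have hmem : C ∈ Th a a' := ⟨haC, ha'C⟩
  rw [key a a' ha (hCfix a' ha'C) haB ha'B (Ne.symm ha'a) x hx,
    ← key a b ha hb haB hbB hab x hx] at hmem
  exact hbC hmem.2

/-- The pointwise stabiliser of a block. -/
def pfix (B : β) : Subgroup G where
  carrier := {σ | ∀ x ∈ S.pts B, σ • x = x}
  one_mem' := fun _ _ => one_smul _ _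
  mul_mem' := fun {a b} ha hb x hx => by rw [mul_smul, hb x hx, ha x hx]
  inv_mem' := fun {a} ha x hx => by rw [inv_smul_eq_iff, ha x hx]

theorem conj_mem_pfix {g σ : G} {B : β} (hσ : σ ∈ S.pfix B) : g * σ * g⁻¹ ∈ S.pfix (g • B) := by
  intro x hx
  rw [S.mem_smul_iff] at hx
  rw [mul_smul, mul_smul, hσ _ hx, smul_inv_smul]

variable [Finite G] [FaithfulSMul G P]

theorem exists_E (B : β) : ∃ E : Subgroup G, E ≠ ⊥ ∧ ∀ σ, σ ∈ E ↔
    (∀ x ∈ S.pts B, σ • x = x) ∧ (σ = 1 ∨ ∀ x, σ • x = x → x ∈ S.pts B) := by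
  set K := S.pfix B with hK
  obtain ⟨σ₀, hσ₀, hσ₀K⟩ := S.exists_axial B
  by_cases hsemi : ∀ σ ∈ K, σ ≠ 1 → ∀ x, σ • x = x → x ∈ S.pts B
  · refine ⟨K, fun h => hσ₀ (by
      have : σ₀ ∈ K := hσ₀K
      rwa [h, Subgroup.mem_bot] at this), fun σ => ⟨fun h => ⟨h, ?_⟩, fun h => h.1⟩⟩
    exact or_iff_not_imp_left.2 fun h1 => hsemi σ h h1
  push Not at hsemi
  obtain ⟨σ₁, hσ₁, hσ₁1, a, haσ, haB⟩ := hsemi
  let Ka : Subgroup K := stabilizer K a
  have hnorm : ∀ g : G, g • B = B → ∀ σ ∈ K, g * σ * g⁻¹ ∈ K := by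
    intro g hg σ hσ
    have := S.conj_mem_pfix (g := g) hσ
    rwa [hg] at this
  have hbot : Ka ≠ ⊥ := fun h => hσ₁1 (by
    have : (⟨σ₁, hσ₁⟩ : K) ∈ Ka := haσ
    rw [h, Subgroup.mem_bot] at this
    exact congrArg Subtype.val this)
  have htop : Ka ≠ ⊤ := fun h => hσ₁1 (eq_of_smul_eq_smul (α := P) fun x => by
    rw [one_smul]
    by_cases hx : x ∈ S.pts B
    · exact hσ₁ x hx
    obtain ⟨g, hg, rfl⟩ := S.trans_out B a x haB hx
    have hg' : g⁻¹ • B = B := inv_smul_eq_iff.2 hg.symm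
    have hmem := hnorm g⁻¹ hg' σ₁ hσ₁
    have : (⟨_, hmem⟩ : K) ∈ Ka := h ▸ Subgroup.mem_top _
    have e : (g⁻¹ * σ₁ * g⁻¹⁻¹) • a = a := this
    rw [inv_inv, mul_smul, mul_smul, inv_smul_eq_iff] at e
    exact e)
  have hout : ∀ κ : K, κ • a ∉ S.pts B := fun κ h => haB (by
    have h' : (κ : G)⁻¹ • ((κ : G) • a) = (κ : G) • a := K.inv_mem κ.2 _ h
    rw [inv_smul_smul] at h'
    have h'' : (κ : G) • a ∈ S.pts B := h
    rwa [← h'] at h'')
  have hfro : Cfsg.IsFrobeniusComplement Ka := by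
    refine ⟨hbot, htop, fun g hg => ?_⟩
    rw [eq_bot_iff]
    intro x hx
    obtain ⟨hxa, hxg⟩ := Subgroup.mem_inf.1 hx
    rw [Subgroup.mem_bot]
    by_contra hx1
    have hxga : x • (g • a) = g • a := by
      rw [Subgroup.mem_pointwise_smul_iff_inv_smul_mem, MulAut.smul_def, ← map_inv,
        MulAut.conj_apply, inv_inv] at hxg
      have e : (g⁻¹ * x * g) • a = a := hxg
      rw [mul_smul, mul_smul, inv_smul_eq_iff] at e
      exact e
    apply hg
    show g • a = a
    exact (S.one_outside (σ := (x : G)) (fun h => hx1 (Subtype.ext h)) x.2 hxa hxga haB (hout g)).symm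
  have hKtrans : ∀ x ∉ S.pts B, x ∈ orbit K a := by
    by_contra! hne
    obtain ⟨b, hbB, hb⟩ := hne
    obtain ⟨g, hgB, hgb⟩ := S.trans_out B a b haB hbB
    have hg' : g⁻¹ • B = B := inv_smul_eq_iff.2 hgB.symm
    let O : Set P := orbit K a
    have hOsub : O ⊆ (S.pts B)ᶜ := by rintro x ⟨κ, rfl⟩; exact hout κ
    have hO' : ∀ x ∈ O, g • x ∉ O := by
      rintro x ⟨κ, rfl⟩ ⟨μ, hμ⟩
      refine hb ⟨(⟨g * κ * g⁻¹, hnorm g hgB _ κ.2⟩ : K)⁻¹ * μ, ?_⟩
      have hμ' : (μ : G) • a = g • (κ : G) • a := hμ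
      show ((g * (κ : G) * g⁻¹)⁻¹ * (μ : G)) • a = b
      rw [mul_smul, hμ', inv_smul_eq_iff, ← hgb, mul_smul, mul_smul, inv_smul_smul]
    have hdisj : Disjoint O ((fun x => g • x) '' O) := Set.disjoint_left.2 fun x hx hx' => by
      obtain ⟨y, hy, rfl⟩ := hx'
      exact hO' y hy hx
    have h2s : 2 * O.ncard ≤ ((S.pts B)ᶜ : Set P).ncard := by
      calc 2 * O.ncard = (O ∪ (fun x => g • x) '' O).ncard := by
            rw [Set.ncard_union_eq hdisj (Set.toFinite _) (Set.toFinite _),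
              Set.ncard_image_of_injective _ (MulAction.injective g), two_mul]
        _ ≤ _ := Set.ncard_le_ncard (by
              rintro x (hx | ⟨y, hy, rfl⟩)
              · exact hOsub hx
              · intro hc
                have := (S.mem_smul_of_fix (g := 1) (X := B) (one_smul G (g • y))).1 (by rwa [one_smul])
                apply hOsub hy
                rw [← S.smul_mem g, hgB]
                exact this) (Set.toFinite _)
    -- count the pairs (nontrivial element of `K`, fixed point off `B`)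
    let Fx : P → Set K := fun x => {κ | κ ≠ 1 ∧ κ • x = x}
    have hFx : ∀ x ∈ (S.pts B)ᶜ, (Fx x).ncard + 1 = Nat.card Ka := by
      intro x hx
      obtain ⟨t, htB, rfl⟩ := S.trans_out B a x haB hx
      have ht' : t⁻¹ • B = B := inv_smul_eq_iff.2 htB.symm
      let f : K → K := fun κ => ⟨t * κ * t⁻¹, hnorm t htB _ κ.2⟩
      have hf : Function.Injective f := fun κ μ h => Subtype.ext (by
        have := congrArg Subtype.val h
        simpa [f] using this)
      have him : insert 1 (Fx (t • a)) = f '' (Ka : Set K) := by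
        ext κ
        constructor
        · intro hκ
          refine ⟨⟨t⁻¹ * κ * t⁻¹⁻¹, hnorm t⁻¹ ht' _ κ.2⟩, ?_, Subtype.ext (by simp [f]; group)⟩
          show (t⁻¹ * (κ : G) * t⁻¹⁻¹) • a = a
          have : (κ : G) • t • a = t • a := by
            rcases hκ with rfl | hκ
            · exact one_smul _ _
            · exact hκ.2
          rw [inv_inv, mul_smul, mul_smul, this, inv_smul_smul]
        · rintro ⟨μ, hμ, rfl⟩
          by_cases h : f μ = 1
          · exact Set.mem_insert_iff.2 (Or.inl h)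
          · refine Set.mem_insert_iff.2 (Or.inr ⟨h, ?_⟩)
            show (t * (μ : G) * t⁻¹) • t • a = t • a
            rw [mul_smul, mul_smul, inv_smul_smul, show (μ : G) • a = a from hμ]
      rw [← Set.ncard_insert_of_notMem (fun h => h.1 rfl) (Set.toFinite _), him,
        Set.ncard_image_of_injective _ hf]
      exact (Nat.card_coe_set_eq _).symm
    have hsum : ((S.pts B)ᶜ : Set P).ncard * (Nat.card Ka - 1) + 1 ≤ Nat.card K := by
      let T := Σ x : ((S.pts B)ᶜ : Set P), Fx x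
      have hinj : Function.Injective (fun p : T => (p.2.1 : K)) := by
        rintro ⟨⟨x, hx⟩, κ, hκ1, hκx⟩ ⟨⟨y, hy⟩, μ, hμ1, hμy⟩ (rfl : κ = μ)
        obtain rfl : x = y := S.one_outside (σ := (κ : G)) (fun h => hκ1 (Subtype.ext h)) κ.2 hκx hμy hx hy
        rfl
      have hT : Nat.card T = ((S.pts B)ᶜ : Set P).ncard * (Nat.card Ka - 1) := by
        have := Fintype.ofFinite ((S.pts B)ᶜ : Set P)
        rw [Nat.card_sigma, Finset.sum_congr rfl (g := fun _ => Nat.card Ka - 1)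
          fun x _ => by rw [Nat.card_coe_set_eq]; have := hFx x x.2; omega,
          Finset.sum_const, Finset.card_univ, smul_eq_mul, ← Nat.card_eq_fintype_card,
          Nat.card_coe_set_eq]
      rw [← hT, ← Set.ncard_range_of_injective hinj,
        ← Set.ncard_insert_of_notMem (a := (1 : K)) (by rintro ⟨p, hp⟩; exact p.2.2.1 hp) (Set.toFinite _),
        ← Set.ncard_univ]
      exact Set.ncard_le_ncard (Set.subset_univ _) (Set.toFinite _)
    have horb : O.ncard * Nat.card Ka = Nat.card K := by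
      rw [← index_stabilizer, mul_comm]
      exact Ka.card_mul_index
    have h2 : 2 ≤ Nat.card Ka := (Subgroup.one_lt_card_iff_ne_bot _).2 hbot
    have hpos : 1 ≤ O.ncard := by
      rw [Nat.one_le_iff_ne_zero, Ne, Set.ncard_eq_zero (Set.toFinite _)]
      exact Set.nonempty_iff_ne_empty.1 ⟨a, mem_orbit_self a⟩
    have h3 := Nat.mul_le_mul_right (Nat.card Ka - 1) h2s
    obtain ⟨h', hh'⟩ : ∃ h', Nat.card Ka = h' + 2 := ⟨Nat.card Ka - 2, by omega⟩
    rw [hh', show h' + 2 - 1 = h' + 1 by omega] at h3 hsum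
    rw [hh'] at horb
    nlinarith
  obtain ⟨N, hNset, -, hNc⟩ := CharInt.exists_frobeniusKernel hfro
  have hkey : ∀ κ : K, κ ∈ N ↔ κ = 1 ∨ ∀ x, (κ : G) • x = x → x ∈ S.pts B := by
    intro κ
    rw [← SetLike.mem_coe, hNset]
    show κ = 1 ∨ _ ↔ _
    refine or_congr_right ⟨fun h x hx => ?_, fun h g hg => ?_⟩
    · by_contra hxB
      obtain ⟨g, rfl⟩ := hKtrans x hxB
      apply h g
      rw [Subgroup.mem_pointwise_smul_iff_inv_smul_mem, MulAut.smul_def, ← map_inv,
        MulAut.conj_apply, inv_inv]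
      show ((g : G)⁻¹ * (κ : G) * (g : G)) • a = a
      rw [mul_smul, mul_smul, show (κ : G) • (g : G) • a = (g : G) • a from hx, inv_smul_smul]
    · rw [Subgroup.mem_pointwise_smul_iff_inv_smul_mem, MulAut.smul_def, ← map_inv,
        MulAut.conj_apply, inv_inv] at hg
      have e : ((g : G)⁻¹ * (κ : G) * (g : G)) • a = a := hg
      rw [mul_smul, mul_smul, inv_smul_eq_iff] at e
      exact hout g (h _ e)
  refine ⟨N.map K.subtype, fun hb => ?_, fun σ => ?_⟩
  · rw [Subgroup.map_eq_bot_iff_of_injective _ K.subtype_injective] at hb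
    rw [hb] at hNc
    exact htop (Subgroup.isComplement'_bot_left.1 hNc)
  constructor
  · rintro ⟨κ, hκ, rfl⟩
    exact ⟨κ.2, ((hkey κ).1 hκ).imp (fun h => by rw [h]; rfl) id⟩
  · rintro ⟨h1, h2⟩
    exact ⟨⟨σ, h1⟩, (hkey _).2 (h2.imp (fun h => Subtype.ext h) id), rfl⟩

/-- The elations with axis `B`. -/
noncomputable def E (B : β) : Subgroup G := (S.exists_E B).choose

theorem E_ne_bot (B : β) : S.E B ≠ ⊥ := (S.exists_E B).choose_spec.1

theorem mem_E {B : β} {σ : G} : σ ∈ S.E B ↔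
    (∀ x ∈ S.pts B, σ • x = x) ∧ (σ = 1 ∨ ∀ x, σ • x = x → x ∈ S.pts B) :=
  (S.exists_E B).choose_spec.2 σ

theorem E_fix {B : β} {σ : G} (hσ : σ ∈ S.E B) {x : P} (hx : x ∈ S.pts B) : σ • x = x :=
  (S.mem_E.1 hσ).1 x hx

theorem E_smul_axis {B : β} {σ : G} (hσ : σ ∈ S.E B) : σ • B = B :=
  S.fix_block fun _ hx => S.E_fix hσ hx

theorem E_semireg {B : β} {σ : G} (hσ : σ ∈ S.E B) {x : P} (hxB : x ∉ S.pts B) (hx : σ • x = x) :
    σ = 1 :=
  (S.mem_E.1 hσ).2.resolve_right fun h => hxB (h x hx)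

theorem conj_mem_E {g σ : G} {B : β} (hσ : σ ∈ S.E B) : g * σ * g⁻¹ ∈ S.E (g • B) := by
  rw [S.mem_E] at hσ ⊢
  refine ⟨S.conj_mem_pfix hσ.1, hσ.2.imp (fun h => by simp [h]) fun h x hx => ?_⟩
  rw [S.mem_smul_iff]
  apply h
  rwa [mul_smul, mul_smul, smul_eq_iff_eq_inv_smul] at hx

theorem conj_mem_E_iff {g σ : G} {B : β} : g * σ * g⁻¹ ∈ S.E (g • B) ↔ σ ∈ S.E B := by
  refine ⟨fun h => ?_, S.conj_mem_E⟩
  have := S.conj_mem_E (g := g⁻¹) h
  rw [inv_smul_smul] at this
  simpa [mul_assoc] using this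

theorem conj_mem_E_self {g σ : G} {B : β} (hg : g • B = B) (hσ : σ ∈ S.E B) :
    g * σ * g⁻¹ ∈ S.E B := by
  have := S.conj_mem_E (g := g) hσ
  rwa [hg] at this

theorem fixed_pts {B : β} {σ : G} (hσ : σ ∈ S.E B) (h1 : σ ≠ 1) : {x | σ • x = x} = S.pts B :=
  Set.ext fun x => ⟨fun hx => by_contra fun hxB => h1 (S.E_semireg hσ hxB hx), fun hx => S.E_fix hσ hx⟩

theorem card_Fb {B : β} {σ : G} (hσ : σ ∈ S.E B) (h1 : σ ≠ 1) : (S.Fb σ).ncard = S.k := by
  rw [Fb, ← S.fixed_eq, S.fixed_pts hσ h1, S.card_pts]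

theorem E_disjoint {B C : β} {σ : G} (hB : σ ∈ S.E B) (hC : σ ∈ S.E C) (hne : B ≠ C) : σ = 1 :=
  by_contra fun h1 => hne (S.pts_inj ((S.fixed_pts hB h1).symm.trans (S.fixed_pts hC h1)))

end Sys

end Cfsg.Agent.AxialDesign
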