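import Cfsg.Agent.S3704

/-!
# The symmetric design of a subgroup of index `n` with two orbits

`G` is faithful and 2-transitive on `P` and `H` has index `|P|`, no fixed point, and is not transitive.
With `B` an orbit of `H`, the cosets of `H` are the blocks of a symmetric design on which `G` is
2-transitive on points and on blocks. We record the properties needed later as the structure `Sys`.
-/

set_option autoImplicit false

open scoped Classical
open MulAction Matrix

namespace Cfsg.Agent.AxialDesign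

variable {G P β : Type*} [Group G] [MulAction G P] [MulAction G β]

/-- A symmetric design with a doubly transitive group and an axial automorphism for each block. -/
structure Sys (G P β : Type*) [Group G] [MulAction G P] [MulAction G β] where
  pts : β → Set P
  k : ℕ
  lam : ℕ
  smul_mem : ∀ (g : G) x X, g • x ∈ pts (g • X) ↔ x ∈ pts X
  card_pts : ∀ X, (pts X).ncard = k
  card_blks : ∀ x, {X | x ∈ pts X}.ncard = k
  card_pair : ∀ x y, x ≠ y → {X | x ∈ pts X ∧ y ∈ pts X}.ncard = lam
  card_inter : ∀ X Y, X ≠ Y → (pts X ∩ pts Y).ncard = lam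
  lam_add_two : lam + 2 ≤ k
  lam_pos : 1 ≤ lam
  two_le_compl : k + 2 ≤ Nat.card P
  lam_mul : lam * (Nat.card P - 1) = k * (k - 1)
  card_eq : Nat.card β = Nat.card P
  fixed_eq : ∀ g : G, {x : P | g • x = x}.ncard = {X : β | g • X = X}.ncard
  two_trans : ∀ x y x' y' : P, x ≠ y → x' ≠ y' → ∃ g : G, g • x = x' ∧ g • y = y'
  two_trans_blk : ∀ X Y X' Y' : β, X ≠ Y → X' ≠ Y' → ∃ g : G, g • X = X' ∧ g • Y = Y'
  trans_in : ∀ X x y, x ∈ pts X → y ∈ pts X → ∃ g : G, g • X = X ∧ g • x = y
  trans_out : ∀ X x y, x ∉ pts X → y ∉ pts X → ∃ g : G, g • X = X ∧ g • x = y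
  exists_axial : ∀ X, ∃ σ : G, σ ≠ 1 ∧ ∀ x ∈ pts X, σ • x = x

/-- Incidence matrices: `N Nᵀ = (r - l) I + l J` makes `N` invertible. -/
theorem isUnit_incidence {ι : Type*} [Fintype ι] [DecidableEq ι] (N : Matrix ι ι ℚ) (r l : ℚ)
    (hlr : l < r) (hl0 : 0 ≤ l) (h : ∀ i j, (N * Nᵀ) i j = if i = j then r else l) : IsUnit N := by
  rw [← isUnit_transpose, ← mulVec_injective_iff_isUnit]
  intro u v huv
  have h0 : Nᵀ *ᵥ (u - v) = 0 := by rw [mulVec_sub, huv, sub_self]
  set w := u - v with hw
  have h1 : w ⬝ᵥ ((N * Nᵀ) *ᵥ w) = 0 := by rw [← mulVec_mulVec, h0, mulVec_zero, dotProduct_zero]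
  have h2 : w ⬝ᵥ ((N * Nᵀ) *ᵥ w) = (r - l) * ∑ i, w i ^ 2 + l * (∑ i, w i) ^ 2 := by
    have e : ∀ i, ((N * Nᵀ) *ᵥ w) i = (r - l) * w i + l * ∑ j, w j := by
      intro i
      simp only [mulVec, dotProduct, h]
      have : ∀ j, (if i = j then r else l) * w j = (if i = j then (r - l) * w j else 0) + l * w j := by
        intro j; split <;> ring
      simp only [this, Finset.sum_add_distrib, Finset.sum_ite_eq, Finset.mem_univ, if_true,
        Finset.mul_sum]
    simp only [dotProduct, e, mul_add, Finset.sum_add_distrib]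
    rw [← Finset.sum_mul]
    congr 1
    · rw [Finset.mul_sum]; exact Finset.sum_congr rfl fun i _ => by ring
    · ring
  have hsq : (∑ i, w i ^ 2) = 0 := by
    have hn : 0 ≤ ∑ i, w i ^ 2 := Finset.sum_nonneg fun i _ => sq_nonneg _
    have : 0 ≤ l * (∑ i, w i) ^ 2 := mul_nonneg hl0 (sq_nonneg _)
    nlinarith
  have : w = 0 := by
    funext i
    exact pow_eq_zero_iff (two_ne_zero) |>.1
      ((Finset.sum_eq_zero_iff_of_nonneg fun j _ => sq_nonneg _).1 hsq i (Finset.mem_univ _))
  exact sub_eq_zero.1 this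

/-- The dual of a symmetric design is one, and automorphisms fix as many blocks as points. -/
theorem incidence_facts {P' β' : Type*} [Finite P'] [Finite β'] (hc : Nat.card β' = Nat.card P')
    (inc : P' → β' → Prop) (k l : ℕ) (hl : l < k)
    (hblk : ∀ X, {x | inc x X}.ncard = k) (hpt : ∀ x, {X | inc x X}.ncard = k)
    (hpair : ∀ x y, x ≠ y → {X | inc x X ∧ inc y X}.ncard = l) :
    (∀ X Y, X ≠ Y → {x | inc x X ∧ inc x Y}.ncard = l) ∧
      ∀ (π : Equiv.Perm P') (τ : Equiv.Perm β'), (∀ x X, inc (π x) (τ X) ↔ inc x X) →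
        {x | π x = x}.ncard = {X | τ X = X}.ncard := by
  have := Fintype.ofFinite P'
  have := Fintype.ofFinite β'
  obtain ⟨e⟩ : Nonempty (P' ≃ β') := Fintype.card_eq.1 (by
    rw [← Nat.card_eq_fintype_card, ← Nat.card_eq_fintype_card, hc])
  let N : Matrix P' P' ℚ := Matrix.of fun i j => if inc i (e j) then 1 else 0
  have hsum : ∀ (q : β' → Prop), (∑ j : P', if q (e j) then (1 : ℚ) else 0) = ({X | q X}.ncard : ℚ) := by
    intro q
    rw [Fintype.sum_equiv e (fun j => if q (e j) then (1 : ℚ) else 0) (fun X => if q X then 1 else 0)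
      fun _ => rfl, Finset.sum_boole, Set.ncard_eq_toFinset_card']
    congr 2
    ext X; simp
  have hNN : ∀ i j, (N * Nᵀ) i j = if i = j then (k : ℚ) else l := by
    intro i j
    simp only [N, Matrix.mul_apply, Matrix.transpose_apply, Matrix.of_apply, ite_mul, one_mul,
      zero_mul, ← ite_and]
    trans ({X | inc i X ∧ inc j X}.ncard : ℚ)
    · convert hsum (fun X => inc i X ∧ inc j X) using 3
    split_ifs with h
    · subst h; simp [hpt]
    · rw [hpair i j h]
  have hu : IsUnit N := isUnit_incidence N k l (by exact_mod_cast hl) (by positivity) hNN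
  have hcol : ∀ j, (∑ i : P', N i j) = (k : ℚ) := by
    intro j
    simp only [N, Matrix.of_apply]
    rw [Finset.sum_boole, ← hblk (e j), Set.ncard_eq_toFinset_card']
    congr 2
    ext i; simp
  have hrow : ∀ i, (∑ j : P', N i j) = (k : ℚ) := by
    intro i
    simp only [N, Matrix.of_apply]
    rw [hsum fun X => inc i X, hpt]
  let D : Matrix P' P' ℚ := Matrix.of fun i j => if i = j then (k : ℚ) else l
  have hD : ∀ i j, D i j = ((k : ℚ) - l) * (if i = j then 1 else 0) + l := by
    intro i j; simp only [D, Matrix.of_apply]; split <;> ring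
  have hcomm : D * N = N * D := by
    ext i j
    simp only [Matrix.mul_apply, hD, add_mul, mul_add, Finset.sum_add_distrib]
    rw [← Finset.mul_sum _ _ (l : ℚ), hcol, ← Finset.sum_mul _ _ (l : ℚ), hrow]
    simp only [mul_ite, ite_mul, mul_one, mul_zero, zero_mul, Finset.sum_ite_eq, Finset.sum_ite_eq',
      Finset.mem_univ, if_true]
    ring
  have hdual : Nᵀ * N = D := by
    apply hu.mul_left_cancel
    rw [← Matrix.mul_assoc, show N * Nᵀ = D from Matrix.ext hNN, hcomm]
  constructor
  · intro X Y hXY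
    have h := congrFun (congrFun hdual (e.symm X)) (e.symm Y)
    simp only [N, D, Matrix.mul_apply, Matrix.transpose_apply, Matrix.of_apply,
      Equiv.apply_symm_apply, if_neg (fun h => hXY (e.symm.injective h))] at h
    simp only [ite_mul, one_mul, zero_mul, ← ite_and] at h
    rw [Finset.sum_boole] at h
    have h' : (Finset.univ.filter fun x => inc x X ∧ inc x Y).card = l := by exact_mod_cast h
    rw [← h', Set.ncard_eq_toFinset_card']
    congr 1
    ext x; simp
  · intro π τ hinc
    let Pm : Matrix P' P' ℚ := Matrix.of fun i j => if π j = i then 1 else 0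
    let Qm : Matrix P' P' ℚ := Matrix.of fun i j => if τ (e j) = e i then 1 else 0
    have hPN : Pm * N = N * Qm := by
      ext i j
      simp only [Matrix.mul_apply]
      rw [Finset.sum_eq_single (π.symm i) (fun b _ hb => ?_) (by simp),
        Finset.sum_eq_single (e.symm (τ (e j))) (fun b _ hb => ?_) (by simp)]
      · simp only [Pm, Qm, N, Matrix.of_apply, Equiv.apply_symm_apply, if_true, one_mul, mul_one]
        have := hinc (π.symm i) (e j)
        rw [Equiv.apply_symm_apply] at this
        exact (if_congr this rfl rfl).symm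
      · have : τ (e j) ≠ e b := fun h => hb (by rw [h, Equiv.symm_apply_apply])
        simp [Qm, this]
      · have : π b ≠ i := fun h => hb (by rw [← h, Equiv.symm_apply_apply])
        simp [Pm, this]
    have htr : Pm.trace = Qm.trace := by
      obtain ⟨u, hu'⟩ := hu
      have : Qm = (↑u⁻¹ : Matrix P' P' ℚ) * Pm * (↑u : Matrix P' P' ℚ) := by
        rw [mul_assoc, hu', hPN, ← mul_assoc, ← hu', Units.inv_mul, one_mul]
      rw [this, Matrix.trace_mul_cycle, Units.mul_inv, one_mul]
    have h1 : Pm.trace = ({x | π x = x}.ncard : ℚ) := by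
      simp only [Pm, Matrix.trace, Matrix.diag, Matrix.of_apply]
      rw [Finset.sum_boole, Set.ncard_eq_toFinset_card']
      congr 2
      ext x; simp
    have h2 : Qm.trace = ({X | τ X = X}.ncard : ℚ) := by
      simp only [Qm, Matrix.trace, Matrix.diag, Matrix.of_apply]
      rw [hsum fun X => τ X = X]
    exact_mod_cast h1.symm.trans (htr.trans h2)

/-- Burnside: a group fixing equally many points in two actions has equally many orbits. -/
theorem card_orbits_eq {K A C : Type*} [Group K] [Finite K] [Finite A] [Finite C] [MulAction K A]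
    [MulAction K C] (h : ∀ g : K, {a : A | g • a = a}.ncard = {c : C | g • c = c}.ncard) :
    Nat.card (orbitRel.Quotient K A) = Nat.card (orbitRel.Quotient K C) := by
  have := Fintype.ofFinite K
  have := Fintype.ofFinite A
  have := Fintype.ofFinite C
  have hf : ∀ g : K, Fintype.card (fixedBy A g) = Fintype.card (fixedBy C g) := fun g => by
    rw [← Nat.card_eq_fintype_card, ← Nat.card_eq_fintype_card, Nat.card_coe_set_eq,
      Nat.card_coe_set_eq]
    exact h g
  have := Fintype.ofFinite (orbitRel.Quotient K A)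
  have := Fintype.ofFinite (orbitRel.Quotient K C)
  have hA := sum_card_fixedBy_eq_card_orbits_mul_card_group K A
  have hC := sum_card_fixedBy_eq_card_orbits_mul_card_group K C
  rw [Finset.sum_congr rfl fun g _ => hf g, hC] at hA
  rw [Nat.card_eq_fintype_card, Nat.card_eq_fintype_card]
  exact (Nat.eq_of_mul_eq_mul_right Fintype.card_pos hA).symm

section Build

variable [Finite G] [FaithfulSMul G P] [Finite P]

/-- The design of `(H, B)`. -/
theorem exists_sys (h2 : IsMultiplyPretransitive G P 2) (H : Subgroup G)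
    (hidx : H.index = Nat.card P) (hnt : ¬ IsPretransitive H P) (hfix : ∀ a : P, ∃ h : H, h • a ≠ a)
    (hunf : ∃ a : P, ∃ h : H, h ≠ 1 ∧ ∀ b ∈ orbit H a, h • b = b) :
    Nonempty (Sys G P (G ⧸ H)) := by
  obtain ⟨a, σ, hσ1, hσ⟩ := hunf
  have horb := S3704.result h2 H hidx hnt hfix
  have : IsPretransitive G P := isPretransitive_of_is_two_pretransitive
  have h2' : ∀ {x y x' y' : P}, x ≠ y → x' ≠ y' → ∃ g : G, g • x = x' ∧ g • y = y' :=
    is_two_pretransitive_iff.1 h2
  have hnP : Nonempty P := ⟨a⟩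
  let B : Set P := orbit H a
  have hBinv : ∀ h ∈ H, ∀ x, h • x ∈ B ↔ x ∈ B := fun h hh x => by
    constructor
    · rintro ⟨t, ht⟩
      exact ⟨⟨h, hh⟩⁻¹ * t, by
        change ((⟨h, hh⟩ : H)⁻¹ * t) • a = x
        rw [mul_smul, show t • a = h • x from ht]
        exact inv_smul_smul (⟨h, hh⟩ : H) x⟩
    · rintro ⟨t, ht⟩
      exact ⟨⟨h, hh⟩ * t, by
        change ((⟨h, hh⟩ : H) * t) • a = h • x
        rw [mul_smul, show t • a = x from ht]; rfl⟩
  let pts : G ⧸ H → Set P := fun c => Quotient.liftOn' c (fun g => {x | g⁻¹ • x ∈ B})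
    (fun g g' hgg => by
      have hm : g⁻¹ * g' ∈ H := QuotientGroup.leftRel_apply.1 hgg
      ext x
      show g⁻¹ • x ∈ B ↔ g'⁻¹ • x ∈ B
      rw [← hBinv _ hm (g'⁻¹ • x), smul_smul, mul_inv_cancel_right])
  have hpts : ∀ (g : G) x, x ∈ pts (g : G ⧸ H) ↔ g⁻¹ • x ∈ B := fun _ _ => Iff.rfl
  have hsm : ∀ (g : G) x X, g • x ∈ pts (g • X) ↔ x ∈ pts X := fun g x X => by
    induction X using QuotientGroup.induction_on with
    | H g' =>
      show g • x ∈ pts ((g * g' : G) : G ⧸ H) ↔ _
      rw [hpts, hpts, smul_smul, _root_.mul_inv_rev, inv_mul_cancel_right]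
  set n := Nat.card P with hn
  have hcardβ : Nat.card (G ⧸ H) = n := hidx
  -- sizes of the two orbits
  have hB2 : 2 ≤ B.ncard := by
    obtain ⟨h, hh⟩ := hfix a
    calc 2 = ({h • a, a} : Set P).ncard := (Set.ncard_pair hh).symm
      _ ≤ B.ncard := Set.ncard_le_ncard (by
        rintro x (rfl | rfl)
        · exact ⟨h, rfl⟩
        · exact mem_orbit_self _) (Set.toFinite _)
  obtain ⟨b, hb⟩ : ∃ b, b ∉ B := by
    by_contra! hall
    exact hnt ⟨fun x y => by
      obtain ⟨t, rfl⟩ := hall x
      obtain ⟨s, rfl⟩ := hall y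
      exact ⟨s * t⁻¹, by simp [mul_smul]⟩⟩
  have hout : ∀ x y, x ∉ B → y ∉ B → ∃ h : H, h • x = y := by
    intro x y hx hy
    by_contra hne
    have hab : (Quotient.mk'' x : orbitRel.Quotient H P) ≠ Quotient.mk'' y := fun he =>
      hne (by obtain ⟨t, ht⟩ := Quotient.exact' he.symm; exact ⟨t, ht⟩)
    have hax : (Quotient.mk'' a : orbitRel.Quotient H P) ≠ Quotient.mk'' x := fun he =>
      hx (Quotient.exact' he.symm)
    have hay : (Quotient.mk'' a : orbitRel.Quotient H P) ≠ Quotient.mk'' y := fun he =>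
      hy (Quotient.exact' he.symm)
    have : Finite (orbitRel.Quotient H P) := Quotient.finite _
    have : 2 < Nat.card (orbitRel.Quotient H P) := by
      calc 2 < ({Quotient.mk'' a, Quotient.mk'' x, Quotient.mk'' y} :
            Set (orbitRel.Quotient H P)).ncard := by
            rw [Set.ncard_insert_of_notMem (by simp [hax, hay]) (Set.toFinite _), Set.ncard_pair hab]
            norm_num
        _ ≤ _ := by rw [← Set.ncard_univ]; exact Set.ncard_le_ncard (Set.subset_univ _)
    omega
  set k := B.ncard with hk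
  have hkn : k + 2 ≤ n := by
    obtain ⟨h, hh⟩ := hfix b
    have hb' : h • b ∉ B := fun h' => hb ((hBinv _ h.2 b).1 h')
    calc k + 2 = (B ∪ {h • b, b}).ncard := by
          rw [Set.ncard_union_eq (Set.disjoint_left.2 fun x hx hx' => by
            rcases hx' with rfl | rfl
            · exact hb' hx
            · exact hb hx) (Set.toFinite _) (Set.toFinite _), Set.ncard_pair hh]
      _ ≤ n := by rw [hn, ← Set.ncard_univ]; exact Set.ncard_le_ncard (Set.subset_univ _)
  have hblk : ∀ X, (pts X).ncard = k := fun X => by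
    induction X using QuotientGroup.induction_on with
    | H g =>
      rw [show pts (g : G ⧸ H) = (fun x => g • x) '' B from Set.ext fun x => by
        rw [hpts]
        exact ⟨fun h => ⟨_, h, smul_inv_smul g x⟩, by rintro ⟨y, hy, rfl⟩; simpa using hy⟩]
      exact Set.ncard_image_of_injective _ (MulAction.injective g)
  have := Fintype.ofFinite P
  have := Fintype.ofFinite (G ⧸ H)
  have hswap : ∀ (S : Finset P) (T : Finset (G ⧸ H)),
      ∑ X ∈ T, (S.filter fun x => x ∈ pts X).card = ∑ x ∈ S, (T.filter fun X => x ∈ pts X).card := by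
    intro S T
    simp only [Finset.card_filter]
    exact Finset.sum_comm
  have hblkF : ∀ X, (Finset.univ.filter fun x => x ∈ pts X).card = k := fun X => by
    rw [← hblk X, Set.ncard_eq_toFinset_card']
    congr 1; ext x; simp
  have hptF : ∀ x, {X | x ∈ pts X}.ncard = (Finset.univ.filter fun X => x ∈ pts X).card := fun x => by
    rw [Set.ncard_eq_toFinset_card']
    congr 1; ext X; simp
  have hptconst : ∀ x y, {X | x ∈ pts X}.ncard = {X | y ∈ pts X}.ncard := fun x y => by
    obtain ⟨g, rfl⟩ := exists_smul_eq G x y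
    rw [← Set.ncard_image_of_injective {X | x ∈ pts X} (MulAction.injective g)]
    congr 1
    ext X
    exact ⟨by rintro ⟨Y, hY, rfl⟩; exact (hsm g x Y).2 hY,
      fun hX => ⟨g⁻¹ • X, by
        have := (hsm g x (g⁻¹ • X)).1 (by rwa [smul_inv_smul]); exact this, smul_inv_smul g X⟩⟩
  have hpt : ∀ x, {X | x ∈ pts X}.ncard = k := fun x => by
    have h := hswap Finset.univ Finset.univ
    simp only [hblkF, ← hptF, Finset.sum_const, smul_eq_mul, Finset.card_univ] at h
    rw [Finset.sum_congr rfl fun y _ => hptconst y x, Finset.sum_const, smul_eq_mul,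
      Finset.card_univ, ← Nat.card_eq_fintype_card, ← Nat.card_eq_fintype_card, hcardβ, ← hn] at h
    exact (Nat.eq_of_mul_eq_mul_left (by omega) h).symm
  obtain ⟨o', ho'⟩ : ∃ o', o' ≠ a := ⟨b, fun h => hb (h ▸ mem_orbit_self a)⟩
  set l := {X | a ∈ pts X ∧ o' ∈ pts X}.ncard with hl
  have hpair : ∀ x y, x ≠ y → {X | x ∈ pts X ∧ y ∈ pts X}.ncard = l := fun x y hxy => by
    obtain ⟨g, rfl, rfl⟩ := h2' (Ne.symm ho') hxy
    rw [hl, ← Set.ncard_image_of_injective {X | a ∈ pts X ∧ o' ∈ pts X} (MulAction.injective g)]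
    congr 1
    ext X
    exact ⟨fun ⟨h1, h2⟩ => ⟨g⁻¹ • X, ⟨(hsm g a _).1 (by rwa [smul_inv_smul]),
        (hsm g o' _).1 (by rwa [smul_inv_smul])⟩, smul_inv_smul g X⟩,
      by rintro ⟨Y, ⟨h1, h2⟩, rfl⟩; exact ⟨(hsm g a Y).2 h1, (hsm g o' Y).2 h2⟩⟩
  have hlam : l * (n - 1) = k * (k - 1) := by
    have h := hswap (Finset.univ.erase a) (Finset.univ.filter fun X => a ∈ pts X)
    rw [Finset.sum_congr rfl (g := fun _ => k - 1), Finset.sum_congr rfl (g := fun _ => l)
      (s₁ := Finset.univ.erase a)] at h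
    · simp only [Finset.sum_const, smul_eq_mul, Finset.card_erase_of_mem (Finset.mem_univ a),
        Finset.card_univ, ← hptF, hpt, ← Nat.card_eq_fintype_card, ← hn] at h
      rw [mul_comm, ← h]
    · intro x hx
      rw [← hpair a x (Ne.symm (Finset.ne_of_mem_erase hx)), Set.ncard_eq_toFinset_card']
      congr 1; ext X; simp
    · intro X hX
      rw [Finset.filter_erase, Finset.card_erase_of_mem (by simpa using hX), hblkF]
  have hl2 : l + 2 ≤ k := by
    by_contra hc
    have h1 : (k - 1) * (k + 1) ≤ l * (n - 1) := Nat.mul_le_mul (by omega) (by omega)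
    rw [hlam, mul_comm k (k - 1)] at h1
    have := Nat.le_of_mul_le_mul_left h1 (by omega)
    omega
  have hl0 : 1 ≤ l := by
    rcases Nat.eq_zero_or_pos l with h | h
    · rw [h, zero_mul, eq_comm, Nat.mul_eq_zero] at hlam
      omega
    · exact h
  obtain ⟨hinter, htr⟩ := incidence_facts (P' := P) (β' := G ⧸ H) hcardβ (fun x X => x ∈ pts X) k l
    (by omega) hblk hpt hpair
  have hfe : ∀ g : G, {x : P | g • x = x}.ncard = {X : G ⧸ H | g • X = X}.ncard := fun g =>
    htr (MulAction.toPerm g) (MulAction.toPerm g) (hsm g)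
  have h1pts : ∀ x, x ∈ pts ((1 : G) : G ⧸ H) ↔ x ∈ B := fun x => by rw [hpts, inv_one, one_smul]
  -- `H` has two orbits on blocks
  have h2b : ∀ Y Y' : G ⧸ H, Y ≠ ((1 : G) : G ⧸ H) → Y' ≠ ((1 : G) : G ⧸ H) → ∃ h : H, h • Y = Y' := by
    intro Y Y' hY hY'
    have hq : Nat.card (orbitRel.Quotient H (G ⧸ H)) = 2 := by
      rw [← horb]
      exact (card_orbits_eq (K := H) fun g => hfe (g : G)).symm
    by_contra hne
    have h1fix : ∀ h : H, h • ((1 : G) : G ⧸ H) = ((1 : G) : G ⧸ H) := fun h => by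
      show ((((h : G) * 1 : G)) : G ⧸ H) = _
      rw [QuotientGroup.eq]
      simp [h.2]
    have hne1 : ∀ Z : G ⧸ H, Z ≠ ((1 : G) : G ⧸ H) →
        (Quotient.mk'' ((1 : G) : G ⧸ H) : orbitRel.Quotient H (G ⧸ H)) ≠ Quotient.mk'' Z := by
      intro Z hZ he
      obtain ⟨t, ht⟩ := Quotient.exact' he.symm
      exact hZ (ht.symm.trans (h1fix t))
    have hab : (Quotient.mk'' Y : orbitRel.Quotient H (G ⧸ H)) ≠ Quotient.mk'' Y' := fun he =>
      hne (by obtain ⟨t, ht⟩ := Quotient.exact' he.symm; exact ⟨t, ht⟩)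
    have : Finite (orbitRel.Quotient H (G ⧸ H)) := Quotient.finite _
    have : 2 < Nat.card (orbitRel.Quotient H (G ⧸ H)) := by
      calc 2 < ({Quotient.mk'' ((1 : G) : G ⧸ H), Quotient.mk'' Y, Quotient.mk'' Y'} :
            Set (orbitRel.Quotient H (G ⧸ H))).ncard := by
            rw [Set.ncard_insert_of_notMem (by simp [hne1 Y hY, hne1 Y' hY']) (Set.toFinite _),
              Set.ncard_pair hab]
            norm_num
        _ ≤ _ := by rw [← Set.ncard_univ]; exact Set.ncard_le_ncard (Set.subset_univ _)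
    omega
  have htb : ∀ X Y X' Y' : G ⧸ H, X ≠ Y → X' ≠ Y' → ∃ g : G, g • X = X' ∧ g • Y = Y' := by
    intro X Y X' Y' h h'
    induction X using QuotientGroup.induction_on with
    | H g =>
    induction X' using QuotientGroup.induction_on with
    | H g' =>
    have e : ∀ u : G, u⁻¹ • (u : G ⧸ H) = ((1 : G) : G ⧸ H) := fun u => by
      show ((u⁻¹ * u : G) : G ⧸ H) = _
      rw [inv_mul_cancel]
    obtain ⟨t, ht⟩ := h2b (g⁻¹ • Y) (g'⁻¹ • Y')
      (fun he => h (MulAction.injective g⁻¹ ((e g).trans he.symm)))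
      (fun he => h' (MulAction.injective g'⁻¹ ((e g').trans he.symm)))
    refine ⟨g' * t * g⁻¹, ?_, ?_⟩
    · show ((g' * t * g⁻¹ * g : G) : G ⧸ H) = (g' : G ⧸ H)
      rw [inv_mul_cancel_right, QuotientGroup.eq, _root_.mul_inv_rev, inv_mul_cancel_right]
      exact H.inv_mem t.2
    · rw [mul_smul, mul_smul, show (t : G) • g⁻¹ • Y = g'⁻¹ • Y' from ht, smul_inv_smul]
  have hfixblk : ∀ (u : G) (t : H), (u * (t : G) * u⁻¹) • (u : G ⧸ H) = (u : G ⧸ H) := fun u t => by
    show ((u * (t : G) * u⁻¹ * u : G) : G ⧸ H) = _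
    rw [inv_mul_cancel_right, QuotientGroup.eq, _root_.mul_inv_rev, inv_mul_cancel_right]
    exact H.inv_mem t.2
  refine ⟨⟨pts, k, l, hsm, hblk, hpt, hpair, hinter, hl2, hl0, hkn, hlam, hcardβ.trans rfl, hfe,
    fun x y x' y' h h' => h2' h h', htb, ?_, ?_, ?_⟩⟩
  · intro X x y hx hy
    induction X using QuotientGroup.induction_on with
    | H u =>
    rw [hpts] at hx hy
    obtain ⟨s, hs⟩ := hx
    obtain ⟨t, ht⟩ := hy
    refine ⟨u * ((t * s⁻¹ : H) : G) * u⁻¹, hfixblk u _, ?_⟩
    rw [mul_smul, mul_smul]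
    have : ((t * s⁻¹ : H) : G) • (u⁻¹ • x) = u⁻¹ • y := by
      rw [← hs, ← ht]
      show (t * s⁻¹) • s • a = t • a
      rw [smul_smul, inv_mul_cancel_right]
    rw [this, smul_inv_smul]
  · intro X x y hx hy
    induction X using QuotientGroup.induction_on with
    | H u =>
    rw [hpts] at hx hy
    obtain ⟨t, ht⟩ := hout _ _ hx hy
    exact ⟨u * (t : G) * u⁻¹, hfixblk u t, by
      rw [mul_smul, mul_smul, show (t : G) • u⁻¹ • x = u⁻¹ • y from ht, smul_inv_smul]⟩
  · intro X
    induction X using QuotientGroup.induction_on with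
    | H u =>
    refine ⟨u * (σ : G) * u⁻¹, fun he => hσ1 (Subtype.ext (conj_eq_one_iff.1 he)), fun x hx => ?_⟩
    rw [hpts] at hx
    rw [mul_smul, mul_smul, show (σ : G) • u⁻¹ • x = u⁻¹ • x from hσ _ hx, smul_inv_smul]

end Build

end Cfsg.Agent.AxialDesign
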