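import Cfsg.Agent.Lib.AxialDesign.Shears
import Cfsg.Agent.Lib.JordanField.Main

/-!
# The coordinate field

The realised maps between the components of a frame, transported to the first component, form a field,
and the elation group becomes a vector space on which the elations through the base point act as
elementary transvections.
-/

set_option autoImplicit false
set_option linter.unusedSectionVars false

open scoped Classical
open MulAction

namespace Cfsg.Agent.AxialDesign

variable {G P β : Type*} [Group G] [MulAction G P] [MulAction G β]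
  [Finite P] [Finite β] [Finite G] [FaithfulSMul G P] {S : Sys G P β} {B : β}

attribute [local instance] eComm

/-- Coordinates on the elation group. -/
structure Coord (fr : S.Frame B) (F : Type) [Field F] [Fintype F] where
  e : (Fin fr.m → F) ≃+ EAdd S B
  card_eq : Fintype.card F = S.q B
  component : ∀ i x, val (e (Pi.single i x)) ∈ S.SG B (fr.c i)
  transvection : ∀ i j, i ≠ j → ∀ t : F, ∃ τ ∈ S.SG (fr.C j) (fr.c i),
    Acts τ fun v => e (e.symm v + Pi.single i (t * e.symm v j))

theorem exists_coord (fr : S.Frame B) :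
    ∃ (F : Type) (_ : Field F) (_ : Fintype F), Nonempty (Coord fr F) := by
  have hm := fr.two_le
  let o : Fin fr.m := ⟨0, by omega⟩
  let o' : Fin fr.m := ⟨1, by omega⟩
  have hoo : o' ≠ o := by simp [o, o']
  obtain ⟨σ, hσ, hσ1⟩ := S.exists_ne_one_mem_SG (fr.c_mem o)
  obtain ⟨w, rfl⟩ := exists_val hσ.1
  let x₀ : A fr o := ⟨w, mem_Ac.2 hσ⟩
  have hx₀ : x₀ ≠ 0 := fun h => hσ1 (by rw [show w = 0 from congrArg Subtype.val h, val_zero])
  -- identifications of the components with the first one
  have hθ : ∀ i, ∃ θ : A fr o ≃+ A fr i, (∀ (h : i = o) x, θ x = h ▸ x) ∧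
      (i ≠ o → θ.toAddMonoidHom ∈ Zset fr i o ∧ θ.symm.toAddMonoidHom ∈ Zset fr o i) := by
    intro i
    by_cases h : i = o
    · subst h
      exact ⟨AddEquiv.refl _, fun _ x => rfl, fun h => absurd rfl h⟩
    obtain ⟨σ', hσ', hσ'1⟩ := S.exists_ne_one_mem_SG (fr.c_mem i)
    obtain ⟨w', rfl⟩ := exists_val hσ'.1
    have hw : (⟨w', mem_Ac.2 hσ'⟩ : A fr i) ≠ 0 := fun e =>
      hσ'1 (by rw [show w' = 0 from congrArg Subtype.val e, val_zero])
    obtain ⟨a, ha, hax⟩ := Zset_eval fr h hx₀ ⟨w', mem_Ac.2 hσ'⟩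
    have ha0 : a ≠ 0 := fun e => hw (by rw [← hax, e]; rfl)
    obtain ⟨b, hb, hl, hr⟩ := exists_inverse fr h ha ha0
    exact ⟨{ toFun := a, invFun := b, left_inv := hl, right_inv := hr, map_add' := map_add a },
      fun h' => absurd h' h, fun _ => ⟨ha, hb⟩⟩
  choose θ hθo hθZ using hθ
  have hθo' : ∀ x, θ o x = x := fun x => hθo o rfl x
  let tr : ∀ i j, AddMonoid.End (A fr o) → Hom' fr i j := fun i j f =>
    (θ i).toAddMonoidHom.comp (AddMonoidHom.comp f (θ j).symm.toAddMonoidHom)
  have htr : ∀ i j f x, tr i j f x = θ i (f ((θ j).symm x)) := fun _ _ _ _ => rfl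
  let L : ∀ i j, i ≠ j → AddSubgroup (AddMonoid.End (A fr o)) := fun i j h =>
    { carrier := {f | tr i j f ∈ Zset fr i j}
      zero_mem' := by
        show tr i j 0 ∈ Zset fr i j
        rw [show tr i j 0 = 0 from AddMonoidHom.ext fun x => by
          show θ i 0 = 0
          exact map_zero _]
        exact zero_mem_Zset fr
      add_mem' := fun {f g} hf hg => by
        show tr i j (f + g) ∈ Zset fr i j
        rw [show tr i j (f + g) = tr i j f + tr i j g from AddMonoidHom.ext fun x => by
          show θ i (f _ + g _) = θ i (f _) + θ i (g _)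
          exact map_add _ _ _]
        exact add_mem_Zset fr h hf hg
      neg_mem' := fun {f} hf => by
        show tr i j (-f) ∈ Zset fr i j
        rw [show tr i j (-f) = -tr i j f from AddMonoidHom.ext fun x => by
          show θ i (-f _) = -θ i (f _)
          exact map_neg _ _]
        exact neg_mem_Zset fr h hf }
  have hL : ∀ {i j} (h : i ≠ j) {f}, f ∈ L i j h ↔ tr i j f ∈ Zset fr i j := fun _ => Iff.rfl
  -- evaluation is bijective
  have hinj : ∀ {i j} (h : i ≠ j) {f}, f ∈ L i j h → ∀ {x}, x ≠ 0 → f x = 0 → f = 0 := by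
    intro i j h f hf x hx hfx
    have h0 := Zset_injective fr ((hL h).1 hf) (x := θ j x)
      (fun e => hx ((θ j).injective (by rw [e, map_zero])))
      (by rw [htr, AddEquiv.symm_apply_apply, hfx, map_zero])
    refine DFunLike.ext _ _ fun y => (θ i).injective ?_
    show θ i (f y) = θ i 0
    have := DFunLike.congr_fun h0 (θ j y)
    rw [htr, AddEquiv.symm_apply_apply] at this
    rw [this, map_zero]; rfl
  have hsurj : ∀ {i j} (h : i ≠ j) {x}, x ≠ 0 → ∀ y, ∃ f ∈ L i j h, f x = y := by
    intro i j h x hx y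
    obtain ⟨a, ha, hax⟩ := Zset_eval fr h (x := θ j x)
      (fun e => hx ((θ j).injective (by rw [e, map_zero]))) (θ i y)
    refine ⟨(θ i).symm.toAddMonoidHom.comp (a.comp (θ j).toAddMonoidHom), (hL h).2 ?_, ?_⟩
    · convert ha using 1
      refine AddMonoidHom.ext fun z => ?_
      show θ i ((θ i).symm (a (θ j ((θ j).symm z)))) = a z
      simp
    · show (θ i).symm (a (θ j x)) = y
      rw [hax, AddEquiv.symm_apply_apply]
  have heq : ∀ {i j} (h : i ≠ j) {i' j'} (h' : i' ≠ j'), L i j h ≤ L i' j' h' →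
      L i j h = L i' j' h' := by
    intro i j h i' j' h' hle
    refine le_antisymm hle fun f hf => ?_
    obtain ⟨g, hg, hgx⟩ := hsurj h hx₀ (f x₀)
    have : f - g = 0 := hinj h' (sub_mem hf (hle hg)) hx₀ (by
      show f x₀ - g x₀ = 0
      rw [hgx, sub_self])
    rw [sub_eq_zero] at this
    exact this ▸ hg
  have hone : ∀ i (h : i ≠ o), (1 : AddMonoid.End (A fr o)) ∈ L i o h ∧
      (1 : AddMonoid.End (A fr o)) ∈ L o i h.symm := by
    intro i h
    constructor
    · refine (hL h).2 ?_
      convert (hθZ i h).1 using 1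
      refine AddMonoidHom.ext fun x => ?_
      show θ i ((θ o).symm x) = θ i x
      rw [show (θ o).symm x = x from (θ o).injective (by rw [AddEquiv.apply_symm_apply, hθo'])]
    · refine (hL h.symm).2 ?_
      convert (hθZ i h).2 using 1
      refine AddMonoidHom.ext fun x => ?_
      show θ o ((θ i).symm x) = (θ i).symm x
      rw [hθo']
  have hflip : ∀ i (h : i ≠ o), L i o h = L o i h.symm := by
    intro i h
    refine (heq h.symm h fun f hf => (hL h).2 ?_).symm
    convert aba_mem fr h (hθZ i h).1 ((hL h.symm).1 hf) using 1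
    refine AddMonoidHom.ext fun x => ?_
    show θ i (f ((θ o).symm x)) = θ i (θ o (f ((θ i).symm (θ i x))))
    rw [AddEquiv.symm_apply_apply, hθo',
      show (θ o).symm x = x from (θ o).injective (by rw [AddEquiv.apply_symm_apply, hθo'])]
  have hmul : ∀ {i j l} (h1 : i ≠ j) (h2 : j ≠ l) (h3 : i ≠ l) {f g},
      f ∈ L i j h1 → g ∈ L j l h2 → f * g ∈ L i l h3 := by
    intro i j l h1 h2 h3 f g hf hg
    refine (hL h3).2 ?_
    convert comp_mem fr h1 h2 h3 ((hL h1).1 hf) ((hL h2).1 hg) using 1
    refine AddMonoidHom.ext fun x => ?_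
    show θ i (f (g ((θ l).symm x))) = θ i (f ((θ j).symm (θ j (g ((θ l).symm x)))))
    rw [AddEquiv.symm_apply_apply]
  set K := L o' o hoo with hK
  have hro : ∀ i (h : i ≠ o), L i o h = K := by
    intro i h
    by_cases hi : i = o'
    · subst hi; rfl
    have hone' := (hone o' hoo).2
    have hle1 : L i o h ≤ L i o' hi := fun f hf => by
      have := hmul h hoo.symm hi hf hone'
      rwa [mul_one] at this
    have hle2 : K ≤ L i o' hi := fun f hf => by
      rw [hK, hflip o' hoo] at hf
      have := hmul h hoo.symm hi (hone i h).1 hf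
      rwa [one_mul] at this
    rw [heq h hi hle1]
    exact (heq hoo hi hle2).symm
  have hall : ∀ i j (h : i ≠ j), L i j h = K := by
    intro i j h
    by_cases hj : j = o
    · subst hj; exact hro i h
    by_cases hi : i = o
    · subst hi; rw [← hflip j h.symm]; exact hro j h.symm
    rw [← hro i hi]
    refine (heq hi h fun f hf => ?_).symm
    have := hmul hi (Ne.symm hj) h hf (hone j hj).2
    rwa [mul_one] at this
  have hKinv : JordanField.InvClosed K := by
    refine ⟨(hone o' hoo).1, fun f hf hf0 => ?_⟩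
    have ha0 : tr o' o f ≠ 0 := fun e => hf0 (DFunLike.ext _ _ fun y => (θ o').injective (by
      have := DFunLike.congr_fun e (θ o y)
      rw [htr, AddEquiv.symm_apply_apply] at this
      rw [this]; exact (map_zero _).symm))
    obtain ⟨b, hb, hl, hr⟩ := exists_inverse fr hoo ((hL hoo).1 hf) ha0
    let g : AddMonoid.End (A fr o) := (θ o).symm.toAddMonoidHom.comp (b.comp (θ o').toAddMonoidHom)
    have hg : g ∈ L o o' hoo.symm := (hL hoo.symm).2 (by
      convert hb using 1
      refine AddMonoidHom.ext fun x => ?_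
      show θ o ((θ o).symm (b (θ o' ((θ o').symm x)))) = b x
      simp)
    refine ⟨g, by rw [hK, hflip o' hoo]; exact hg, ?_, ?_⟩
    · refine DFunLike.ext _ _ fun x => (θ o').injective ?_
      show θ o' (f ((θ o).symm (b (θ o' x)))) = θ o' x
      exact hr (θ o' x)
    · refine DFunLike.ext _ _ fun x => (θ o).injective ?_
      show θ o ((θ o).symm (b (θ o' (f x)))) = θ o x
      rw [AddEquiv.apply_symm_apply]
      have := hl (θ o x)
      rwa [htr, AddEquiv.symm_apply_apply] at this
  obtain ⟨p, hp, hexp⟩ := S.exists_prime_exp B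
  have : Fact p.Prime := ⟨hp⟩
  have hpA : ∀ x : A fr o, p • x = 0 := fun x => Subtype.ext (by
    rw [AddSubgroup.coe_nsmul]
    exact Additive.toMul.injective (Subtype.ext (hexp _ (val_mem (x : EAdd S B)))))
  have hcm := JordanField.commute_and_mul_mem hpA hKinv
  let R : Subring (AddMonoid.End (A fr o)) :=
    { carrier := K
      zero_mem' := zero_mem K
      one_mem' := hKinv.one
      add_mem' := fun ha hb => add_mem (ha : _ ∈ K) hb
      neg_mem' := fun ha => neg_mem (ha : _ ∈ K)
      mul_mem' := fun ha hb => (hcm _ ha _ hb).2 }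
  let _ : CommRing ↥R := { (inferInstance : Ring ↥R) with
    mul_comm := fun x y => Subtype.ext (hcm x x.2 y y.2).1 }
  have hnt : (1 : AddMonoid.End (A fr o)) ≠ 0 := fun e => hx₀ (DFunLike.congr_fun e x₀)
  have : Nontrivial ↥R := ⟨1, 0, fun e => hnt (congrArg Subtype.val e)⟩
  have hfield : IsField ↥R := by
    refine ⟨⟨1, 0, one_ne_zero⟩, mul_comm, fun {x} hx => ?_⟩
    obtain ⟨y, hy, hxy, -⟩ := hKinv.inv x x.2 (fun e => hx (Subtype.ext e))
    exact ⟨⟨y, hy⟩, Subtype.ext hxy⟩
  let _ : Field ↥R := hfield.toField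
  have : Finite (AddMonoid.End (A fr o)) := Finite.of_injective _ DFunLike.coe_injective
  obtain ⟨F, hFf, hFt, ⟨iso⟩⟩ : ∃ (F : Type) (_ : Field F) (_ : Fintype F), Nonempty (F ≃+* ↥R) := by
    have : Small.{0} ↥R := inferInstance
    exact ⟨Shrink.{0} ↥R, (equivShrink ↥R).symm.field, Fintype.ofFinite _,
      ⟨(equivShrink ↥R).symm.ringEquiv⟩⟩
  -- `F` is the first component
  let κ : F →+ A fr o := AddMonoidHom.mk' (fun t => (iso t : AddMonoid.End (A fr o)) x₀) fun s t => by
    simp only [map_add]; rfl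
  have hκ : Function.Bijective κ := by
    refine ⟨(injective_iff_map_eq_zero κ).2 fun t ht => ?_, fun y => ?_⟩
    · exact iso.injective ((Subtype.ext (hinj hoo (iso t).2 hx₀ ht) : iso t = 0).trans (map_zero iso).symm)
    · obtain ⟨f, hf, hfy⟩ := hsurj hoo hx₀ y
      refine ⟨iso.symm ⟨f, hf⟩, ?_⟩
      show (iso (iso.symm ⟨f, hf⟩) : AddMonoid.End (A fr o)) x₀ = y
      rw [RingEquiv.apply_symm_apply]
      exact hfy
  have hκmul : ∀ c t : F, (iso c : AddMonoid.End (A fr o)) (κ t) = κ (c * t) := fun c t => by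
    show (iso c : AddMonoid.End (A fr o)) ((iso t : AddMonoid.End (A fr o)) x₀) =
      (iso (c * t) : AddMonoid.End (A fr o)) x₀
    rw [map_mul]; rfl
  let φ : ∀ i, F ≃+ A fr i := fun i => (AddEquiv.ofBijective κ hκ).trans (θ i)
  have hφ : ∀ i t, φ i t = θ i (κ t) := fun _ _ => rfl
  let e : (Fin fr.m → F) ≃+ EAdd S B :=
    (AddEquiv.piCongrRight φ).trans (AddEquiv.ofBijective (sumHom fr) (sumHom_bijective fr))
  have hπe : ∀ w i, π fr i (e w) = φ i (w i) := fun w i => π_sumHom fr i _
  have hesymm : ∀ v i, φ i (e.symm v i) = π fr i v := fun v i => by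
    rw [← hπe (e.symm v) i, AddEquiv.apply_symm_apply]
  refine ⟨F, hFf, hFt, ⟨⟨e, ?_, fun i x => ?_, fun i j hij t => ?_⟩⟩⟩
  · rw [← Nat.card_eq_fintype_card, Nat.card_congr (φ o).toEquiv, card_A]
  · have : e (Pi.single i x) = ((φ i x : A fr i) : EAdd S B) := ext_π fr fun l => by
      rw [hπe]
      by_cases hl : l = i
      · subst hl; rw [Pi.single_eq_same, π_self]
      · rw [Pi.single_eq_of_ne hl, map_zero, π_ne fr hl]
    rw [this]
    exact mem_Ac.1 (φ i x).2
  · have hmem : (iso t : AddMonoid.End (A fr o)) ∈ L i j hij := by rw [hall i j hij]; exact (iso t).2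
    obtain ⟨τ, hτ, hA⟩ := (hL hij).1 hmem
    refine ⟨τ, hτ, hA.congr fun v => ext_π fr fun l => ?_⟩
    rw [hπe, Pi.add_apply, map_add, hesymm]
    by_cases hl : l = i
    · subst hl
      rw [π_T_self, Pi.single_eq_same, htr, ← hesymm v j, hφ, AddEquiv.symm_apply_apply, hκmul, ← hφ]
    · rw [π_T_ne fr hl, Pi.single_eq_of_ne hl, map_zero, add_zero]

end Cfsg.Agent.AxialDesign
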