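import Cfsg.Agent.Lib.AxialDesign.Axial

/-!
# Every elation has a centre

If `σ ∈ E B` is nontrivial then there is a point `c` of `B` such that the blocks fixed by `σ` are the
blocks through `c`.
-/

set_option autoImplicit false
set_option linter.unusedSectionVars false

open scoped Classical Pointwise
open MulAction

namespace Cfsg.Agent.AxialDesign

namespace Sys

variable {G P β : Type*} [Group G] [MulAction G P] [MulAction G β] (S : Sys G P β)
  [Finite P] [Finite β] [Finite G] [FaithfulSMul G P]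

/-- The number of fixed blocks of `σ` through `x`. -/
noncomputable def mult (σ : G) (x : P) : ℕ := {X | σ • X = X ∧ x ∈ S.pts X}.ncard

theorem mult_out {B : β} {σ : G} (hσ : σ ∈ S.E B) (h1 : σ ≠ 1) {x : P} (hx : x ∉ S.pts B) :
    S.mult σ x = S.lam := by
  have hne : σ • x ≠ x := fun h => h1 (S.E_semireg hσ hx h)
  rw [mult, ← S.card_pair x (σ • x) hne.symm]
  congr 1
  ext X
  refine ⟨fun ⟨h, hxX⟩ => ⟨hxX, by rw [← h, S.smul_mem]; exact hxX⟩, fun ⟨hxX, hsX⟩ => ⟨?_, hxX⟩⟩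
  by_contra hne'
  have h : σ • x ∈ S.pts X ∩ S.pts (σ • X) := ⟨hsX, (S.smul_mem σ x X).2 hxX⟩
  rw [S.inter_eq (fun _ hy => S.E_fix hσ hy) hne'] at h
  apply hx
  have h' : σ • (σ • x) = σ • x := S.E_fix hσ h.2
  have h'' : σ • x = x := MulAction.injective σ h'
  exact absurd h'' hne

theorem sum_mult {B Y : β} {σ : G} (hσ : σ ∈ S.E B) (h1 : σ ≠ 1) (hY : Y ≠ B) :
    ∑ x ∈ (S.pts Y ∩ S.pts B).toFinite.toFinset, S.mult σ x =
      S.lam * S.lam + if σ • Y = Y then S.k - S.lam else 0 := by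
  have := Fintype.ofFinite β
  have := Fintype.ofFinite P
  let FF : Finset β := Finset.univ.filter fun X => σ • X = X
  have hFF : FF.card = S.k := by
    rw [← S.card_Fb hσ h1, Set.ncard_eq_toFinset_card']
    congr 1; ext X; simp only [FF, Fb, Finset.mem_filter, Finset.mem_univ, true_and]
    exact (Set.mem_toFinset (s := {X : β | σ • X = X})).symm
  have hm : ∀ x, S.mult σ x = (FF.filter fun X => x ∈ S.pts X).card := by
    intro x
    rw [mult, Set.ncard_eq_toFinset_card']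
    congr 1; ext X; simp [FF]
  let Yf : Finset P := (S.pts Y).toFinite.toFinset
  have hcount : ∀ X, (Yf.filter fun x => x ∈ S.pts X).card = (S.pts Y ∩ S.pts X).ncard := by
    intro X
    rw [Set.ncard_eq_toFinset_card']
    congr 1; ext x; simp [Yf]
  have htot : ∑ x ∈ Yf, S.mult σ x = S.k * S.lam + if σ • Y = Y then S.k - S.lam else 0 := by
    calc ∑ x ∈ Yf, S.mult σ x = ∑ x ∈ Yf, (FF.filter fun X => x ∈ S.pts X).card :=
          Finset.sum_congr rfl fun x _ => hm x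
      _ = ∑ X ∈ FF, (Yf.filter fun x => x ∈ S.pts X).card := by
          simp only [Finset.card_filter]; exact Finset.sum_comm
      _ = ∑ X ∈ FF, (S.lam + if Y = X then S.k - S.lam else 0) := by
          refine Finset.sum_congr rfl fun X _ => ?_
          rw [hcount]
          split_ifs with h
          · subst h
            rw [Set.inter_self, S.card_pts]
            have := S.lam_lt
            omega
          · rw [S.card_inter _ _ h, add_zero]
      _ = _ := by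
          rw [Finset.sum_add_distrib, Finset.sum_const, smul_eq_mul, hFF, Finset.sum_ite_eq]
          simp [FF]
  have hout : ∑ x ∈ (S.pts Y \ S.pts B).toFinite.toFinset, S.mult σ x = (S.k - S.lam) * S.lam := by
    rw [Finset.sum_congr rfl (g := fun _ => S.lam) fun x hx => S.mult_out hσ h1 (by
      rw [Set.Finite.mem_toFinset] at hx; exact hx.2), Finset.sum_const, smul_eq_mul,
      ← Set.ncard_eq_toFinset_card _]
    congr 1
    have := Set.ncard_inter_add_ncard_sdiff_eq_ncard (S.pts Y) (S.pts B) (Set.toFinite _)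
    rw [S.card_pts, S.card_inter Y B hY] at this
    omega
  have hsplit : ∑ x ∈ Yf, S.mult σ x =
      (∑ x ∈ (S.pts Y ∩ S.pts B).toFinite.toFinset, S.mult σ x) +
        ∑ x ∈ (S.pts Y \ S.pts B).toFinite.toFinset, S.mult σ x := by
    rw [← Finset.sum_filter_add_sum_filter_not Yf (fun x => x ∈ S.pts B)]
    congr 1
    · refine Finset.sum_congr ?_ fun _ _ => rfl
      ext x; simp [Yf]
    · refine Finset.sum_congr ?_ fun _ _ => rfl
      ext x; simp [Yf]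
  rw [htot, hout] at hsplit
  obtain ⟨d, hd⟩ : ∃ d, S.k = S.lam + d := ⟨S.k - S.lam, by have := S.lam_lt; omega⟩
  rw [hd, Nat.add_sub_cancel_left, add_mul] at hsplit
  rw [hd, Nat.add_sub_cancel_left]
  omega

/-- Blocks with the same trace on the axis are fixed together. -/
theorem same_trace {B Y Y' : β} {σ : G} (hσ : σ ∈ S.E B) (hY : Y ≠ B) (hY' : Y' ≠ B)
    (h : S.pts Y ∩ S.pts B = S.pts Y' ∩ S.pts B) (hfix : σ • Y = Y) : σ • Y' = Y' := by
  by_cases h1 : σ = 1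
  · rw [h1, one_smul]
  by_contra hne
  have e := S.sum_mult hσ h1 hY
  have e' := S.sum_mult hσ h1 hY'
  have hs : (S.pts Y ∩ S.pts B).toFinite.toFinset = (S.pts Y' ∩ S.pts B).toFinite.toFinset := by
    ext x; simp [Set.Finite.mem_toFinset, h]
  rw [if_pos hfix] at e
  rw [if_neg hne, ← hs, e] at e'
  have := S.lam_lt
  omega

/-- The elations with axis `B` fixing `C`. -/
noncomputable def Ec (B C : β) : Subgroup G := S.E B ⊓ stabilizer G C

theorem mem_Ec {B C : β} {σ : G} : σ ∈ S.Ec B C ↔ σ ∈ S.E B ∧ σ • C = C := Iff.rfl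

theorem Ec_le {B C : β} : S.Ec B C ≤ S.E B := inf_le_left

/-- The image of a block under an elation has the same trace on the axis. -/
theorem trace_smul {B C : β} {ε : G} (hε : ε ∈ S.E B) :
    S.pts (ε • C) ∩ S.pts B = S.pts C ∩ S.pts B :=
  Set.ext fun _x => and_congr_left fun hx => S.mem_smul_of_fix (S.E_fix hε hx)

theorem smul_ne_axis {B C : β} {ε : G} (hε : ε ∈ S.E B) (hC : C ≠ B) : ε • C ≠ B := fun h =>
  hC (MulAction.injective ε (h.trans (S.E_smul_axis hε).symm))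

theorem fix_translate {B C : β} {σ ε : G} (hσ : σ ∈ S.E B) (hε : ε ∈ S.E B) :
    σ • (ε • C) = ε • C ↔ σ • C = C := by
  by_cases hC : C = B
  · subst hC
    simp [S.E_smul_axis hσ, S.E_smul_axis hε]
  exact ⟨S.same_trace hσ (S.smul_ne_axis hε hC) hC (S.trace_smul hε),
    S.same_trace hσ hC (S.smul_ne_axis hε hC) (S.trace_smul hε).symm⟩

theorem Ec_translate {B C : β} {ε : G} (hε : ε ∈ S.E B) : S.Ec B (ε • C) = S.Ec B C :=
  SetLike.ext fun σ => by
    simp only [mem_Ec]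
    exact and_congr_right fun hσ => S.fix_translate hσ hε

theorem Ec_normal {B C : β} {σ ε : G} (hσ : σ ∈ S.Ec B C) (hε : ε ∈ S.E B) :
    ε * σ * ε⁻¹ ∈ S.Ec B C := by
  refine S.mem_Ec.2 ⟨(S.E B).mul_mem ((S.E B).mul_mem hε hσ.1) ((S.E B).inv_mem hε), ?_⟩
  have h := (S.fix_translate (C := C) hσ.1 ((S.E B).inv_mem hε)).2 hσ.2
  rw [mul_smul, mul_smul, h, smul_inv_smul]

include S in
theorem exists_blk_ne (B : β) : ∃ C : β, C ≠ B := by
  have : 1 < Nat.card β := by rw [S.card_eq]; have := S.two_le_compl; omega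
  obtain ⟨X, Y, hXY⟩ := (Finite.one_lt_card_iff_nontrivial.1 this).exists_pair_ne
  rcases eq_or_ne X B with rfl | h
  · exact ⟨Y, hXY.symm⟩
  · exact ⟨X, h⟩

theorem card_Ec_conj (g : G) (B C : β) : Nat.card (S.Ec (g • B) (g • C)) = Nat.card (S.Ec B C) := by
  have h : (S.Ec B C).map (MulAut.conj g).toMonoidHom = S.Ec (g • B) (g • C) := by
    refine SetLike.ext fun σ => ⟨?_, fun hσ => ?_⟩
    · rintro ⟨τ, hτ, rfl⟩
      refine ⟨S.conj_mem_E hτ.1, ?_⟩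
      show (g * τ * g⁻¹) • g • C = g • C
      rw [mul_smul, inv_smul_smul, mul_smul, show τ • C = C from hτ.2]
    · refine ⟨g⁻¹ * σ * g, ⟨?_, ?_⟩, by simp [mul_assoc]⟩
      · show g⁻¹ * σ * g ∈ S.E B
        rw [← S.conj_mem_E_iff (g := g)]
        simpa [mul_assoc] using hσ.1
      · show (g⁻¹ * σ * g) • C = C
        rw [mul_smul, mul_smul, show σ • g • C = g • C from hσ.2, inv_smul_smul]
  rw [← h]
  exact (Nat.card_congr ((S.Ec B C).equivMapOfInjective _ (MulAut.conj g).injective).toEquiv).symm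

theorem card_Ec_eq {B C B' C' : β} (h : B ≠ C) (h' : B' ≠ C') :
    Nat.card (S.Ec B' C') = Nat.card (S.Ec B C) := by
  obtain ⟨g, rfl, rfl⟩ := S.two_trans_blk B C B' C' h h'
  exact S.card_Ec_conj g B C

theorem card_E_eq (B B' : β) : Nat.card (S.E B') = Nat.card (S.E B) := by
  by_cases hBB : B = B'
  · rw [hBB]
  obtain ⟨g, rfl, -⟩ := S.two_trans_blk B B' B' B hBB (Ne.symm hBB)
  have h : (S.E B).map (MulAut.conj g).toMonoidHom = S.E (g • B) := by
    refine SetLike.ext fun σ => ⟨?_, fun hσ => Subgroup.mem_map.2 ⟨g⁻¹ * σ * g, ?_, by simp [mul_assoc]⟩⟩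
    · rintro ⟨τ, hτ, rfl⟩
      exact S.conj_mem_E hτ
    · rw [← S.conj_mem_E_iff (g := g)]
      simpa [mul_assoc] using hσ
  rw [← h]
  exact (Nat.card_congr ((S.E B).equivMapOfInjective _ (MulAut.conj g).injective).toEquiv).symm

theorem exists_fixed_blk {B : β} {σ : G} (hσ : σ ∈ S.E B) (h1 : σ ≠ 1) :
    ∃ C, C ≠ B ∧ σ • C = C := by
  obtain ⟨C, hC, hne⟩ := Set.exists_ne_of_one_lt_ncard
    (s := S.Fb σ) (by rw [S.card_Fb hσ h1]; have := S.two_le_k; omega) B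
  exact ⟨C, hne, hC⟩

theorem exists_ne_one_mem_E (B : β) : ∃ σ ∈ S.E B, σ ≠ 1 := by
  by_contra! h
  exact S.E_ne_bot B (eq_bot_iff.2 fun σ hσ => Subgroup.mem_bot.2 (h σ hσ))

theorem one_lt_card_Ec {B C : β} (h : B ≠ C) : 1 < Nat.card (S.Ec B C) := by
  obtain ⟨σ, hσ, h1⟩ := S.exists_ne_one_mem_E B
  obtain ⟨C₀, hC₀, hfix⟩ := S.exists_fixed_blk hσ h1
  rw [S.card_Ec_eq hC₀.symm h, Subgroup.one_lt_card_iff_ne_bot]
  intro hbot
  exact h1 (Subgroup.mem_bot.1 (hbot ▸ S.mem_Ec.2 ⟨hσ, hfix⟩))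

theorem exists_not_mem_Ec {B C : β} (h : B ≠ C) : ∃ ε ∈ S.E B, ε ∉ S.Ec B C := by
  by_contra! hall
  have heq : S.Ec B C = S.E B := le_antisymm S.Ec_le hall
  obtain ⟨σ, hσ, h1⟩ := S.exists_ne_one_mem_E B
  apply h1
  refine S.eq_one_of_Fb fun X => ?_
  by_cases hX : X = B
  · rw [hX, S.E_smul_axis hσ]
  have h2 : S.Ec B X = S.E B := by
    refine Subgroup.eq_of_le_of_card_ge S.Ec_le ?_
    rw [S.card_Ec_eq h (Ne.symm hX), heq]
  exact (h2.symm ▸ hσ : σ ∈ S.Ec B X).2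

theorem commute_Ec {B C : β} (h : B ≠ C) {σ τ : G} (hσ : σ ∈ S.Ec B C) (hτ : τ ∈ S.Ec C B) :
    σ * τ = τ * σ := by
  have h1 : σ * τ * σ⁻¹ * τ⁻¹ = 1 := by
    refine S.E_disjoint (B := B) (C := C) ?_ ?_ h
    · have e : σ * τ * σ⁻¹ * τ⁻¹ = σ * (τ * σ⁻¹ * τ⁻¹) := by group
      rw [e]
      exact (S.E B).mul_mem hσ.1 (S.conj_mem_E_self hτ.2 ((S.E B).inv_mem hσ.1))
    · exact (S.E C).mul_mem (S.conj_mem_E_self hσ.2 hτ.1) ((S.E C).inv_mem hτ.1)
  calc σ * τ = (σ * τ * σ⁻¹ * τ⁻¹) * (τ * σ) := by group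
    _ = τ * σ := by rw [h1, one_mul]

/-- The commutator of `ε` and `τ`. -/
def zc (_ : Sys G P β) (ε τ : G) : G := ε * τ * ε⁻¹ * τ⁻¹

/-- An elation with axis `C` fixing `B` fixes the translates of `C` by elations with axis `B`. -/
theorem axis_fix {B C : β} (h : B ≠ C) {ε τ : G} (hε : ε ∈ S.E B) (hτ : τ ∈ S.Ec C B) :
    τ • (ε • C) = ε • C := by
  by_cases hεC : ε • C = C
  · rw [hεC, S.E_smul_axis hτ.1]
  refine S.same_trace hτ.1 h hεC ?_ hτ.2
  have := S.inter_eq (fun _ hx => S.E_fix hε hx) hεC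
  rw [Set.inter_comm, ← this, Set.inter_comm]

theorem zc_mem {B C : β} (h : B ≠ C) {ε τ : G} (hε : ε ∈ S.E B) (hτ : τ ∈ S.Ec C B) :
    S.zc ε τ ∈ S.Ec B C := by
  refine ⟨?_, ?_⟩
  · have e : S.zc ε τ = ε * (τ * ε⁻¹ * τ⁻¹) := by simp [zc, mul_assoc]
    rw [e]
    exact (S.E B).mul_mem hε (S.conj_mem_E_self hτ.2 ((S.E B).inv_mem hε))
  · show S.zc ε τ • C = C
    rw [zc, mul_smul, S.E_smul_axis ((S.E C).inv_mem hτ.1), mul_smul, mul_smul,
      S.axis_fix h ((S.E B).inv_mem hε) hτ, smul_inv_smul]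

theorem zc_inj {B C : β} (h : B ≠ C) {ε : G} (hε : ε ∈ S.E B) (hεC : ε • C ≠ C) {τ τ' : G}
    (hτ : τ ∈ S.E C) (hτ' : τ' ∈ S.E C) (he : S.zc ε τ = S.zc ε τ') : τ = τ' := by
  have hρ : τ'⁻¹ * τ ∈ S.E C := (S.E C).mul_mem ((S.E C).inv_mem hτ') hτ
  have hcomm : (τ'⁻¹ * τ) * ε⁻¹ = ε⁻¹ * (τ'⁻¹ * τ) := by
    simp only [zc, mul_assoc, mul_right_inj] at he
    calc τ'⁻¹ * τ * ε⁻¹ = τ'⁻¹ * (τ * (ε⁻¹ * τ⁻¹)) * τ := by group
      _ = τ'⁻¹ * (τ' * (ε⁻¹ * τ'⁻¹)) * τ := by rw [he]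
      _ = ε⁻¹ * (τ'⁻¹ * τ) := by group
  obtain ⟨x, hxC, hxε⟩ : ∃ x ∈ S.pts C, ε⁻¹ • x ∉ S.pts C := by
    by_contra! hall
    apply hεC
    apply S.pts_inj
    refine (Set.eq_of_subset_of_ncard_le (fun x hx => ?_) ?_ (Set.toFinite _)).symm
    · rw [S.mem_smul_iff]; exact hall x hx
    · rw [S.card_pts, S.card_pts]
  have h1 := S.E_semireg hρ hxε (by rw [← mul_smul, hcomm, mul_smul, S.E_fix hρ hxC])
  exact (eq_of_inv_mul_eq_one h1).symm

theorem zc_surj {B C : β} (h : B ≠ C) {ε : G} (hε : ε ∈ S.E B) (hεC : ε • C ≠ C) {σ : G}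
    (hσ : σ ∈ S.Ec B C) : ∃ τ ∈ S.Ec C B, S.zc ε τ = σ := by
  let f : S.Ec C B → S.Ec B C := fun τ => ⟨S.zc ε τ, S.zc_mem h hε τ.2⟩
  have hinj : Function.Injective f := fun τ τ' he =>
    Subtype.ext (S.zc_inj h hε hεC τ.2.1 τ'.2.1 (congrArg Subtype.val he))
  obtain ⟨τ, hτ⟩ := ((Nat.bijective_iff_injective_and_card f).2
    ⟨hinj, S.card_Ec_eq h h.symm⟩).2 ⟨σ, hσ⟩
  exact ⟨τ, τ.2, congrArg Subtype.val hτ⟩

theorem zc_fix {B X : β} {ε τ : G} (hε : ε ∈ S.Ec B X) (hτ : τ • X = X) : S.zc ε τ • X = X := by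
  have h1 : τ⁻¹ • X = X := inv_smul_eq_iff.2 hτ.symm
  have h2 : ε⁻¹ • X = X := inv_smul_eq_iff.2 hε.2.symm
  rw [zc, mul_smul, mul_smul, mul_smul, h1, h2, hτ, hε.2]

theorem card_stab_le {B C : β} (h : B ≠ C) {X : β} (hX : X ≠ B) :
    Nat.card ↥(S.Ec C B ⊓ stabilizer G X) ≤ Nat.card ↥(S.Ec B C ⊓ stabilizer G X) := by
  by_cases hle : S.Ec B X ≤ S.Ec B C
  · have heq : S.Ec B X = S.Ec B C :=
      Subgroup.eq_of_le_of_card_ge hle (by rw [S.card_Ec_eq h (Ne.symm hX)])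
    have : S.Ec B C ⊓ stabilizer G X = S.Ec B C := by
      refine inf_eq_left.2 fun σ hσ => ?_
      rw [← heq] at hσ
      exact hσ.2
    rw [this]
    calc Nat.card ↥(S.Ec C B ⊓ stabilizer G X) ≤ Nat.card (S.Ec C B) :=
          Subgroup.card_le_of_le inf_le_left
      _ = _ := S.card_Ec_eq h h.symm
  · obtain ⟨ε, hε, hεC⟩ := SetLike.not_le_iff_exists.1 hle
    have hεC' : ε • C ≠ C := fun he => hεC ⟨hε.1, he⟩
    refine Nat.card_le_card_of_injective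
      (fun τ => (⟨S.zc ε τ, S.zc_mem h hε.1 τ.2.1, S.zc_fix hε τ.2.2⟩ :
        ↥(S.Ec B C ⊓ stabilizer G X))) fun τ τ' he =>
      Subtype.ext (S.zc_inj h hε.1 hεC' τ.2.1.1 τ'.2.1.1 (congrArg Subtype.val he))

theorem sum_card_stab [Fintype β] {B A : β} (W : Subgroup G) (hW : W ≤ S.E A)
    (hWB : ∀ σ ∈ W, σ • B = B) :
    ∑ X ∈ Finset.univ.erase B, Nat.card ↥(W ⊓ stabilizer G X) =
      (Nat.card P - 1) + (Nat.card W - 1) * (S.k - 1) := by
  have := Fintype.ofFinite W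
  have hX : ∀ X : β, Nat.card ↥(W ⊓ stabilizer G X) =
      (Finset.filter (fun σ : W => (σ : G) • X = X) Finset.univ).card := by
    intro X
    rw [← Fintype.card_subtype, ← Nat.card_eq_fintype_card]
    exact Nat.card_congr
      ⟨fun σ => ⟨⟨σ, σ.2.1⟩, mem_stabilizer_iff.1 σ.2.2⟩, fun σ => ⟨σ.1, σ.1.2, mem_stabilizer_iff.2 σ.2⟩,
        fun _ => rfl, fun _ => rfl⟩
  simp only [hX, Finset.card_filter]
  rw [Finset.sum_comm, ← Finset.add_sum_erase _ _ (Finset.mem_univ (1 : W))]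
  congr 1
  · simp [Finset.card_erase_of_mem, ← Nat.card_eq_fintype_card, S.card_eq]
  · rw [Finset.sum_congr rfl (g := fun _ => S.k - 1), Finset.sum_const, smul_eq_mul,
      Finset.card_erase_of_mem (Finset.mem_univ _), Finset.card_univ, ← Nat.card_eq_fintype_card]
    intro σ hσ
    have hσ1 : (σ : G) ≠ 1 := fun e => Finset.ne_of_mem_erase hσ (Subtype.ext e)
    rw [← Finset.card_filter, Finset.filter_erase, Finset.card_erase_of_mem (by simp [hWB σ σ.2]),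
      ← S.card_Fb (hW σ.2) hσ1, Set.ncard_eq_toFinset_card']
    congr 2; ext X; simp only [Fb, Finset.mem_filter, Finset.mem_univ, true_and]
    exact (Set.mem_toFinset (s := {X : β | (σ : G) • X = X})).symm

theorem card_stab_eq {B C : β} (h : B ≠ C) {X : β} (hX : X ≠ B) :
    Nat.card ↥(S.Ec C B ⊓ stabilizer G X) = Nat.card ↥(S.Ec B C ⊓ stabilizer G X) := by
  have := Fintype.ofFinite β
  have h1 := S.sum_card_stab (B := B) (A := C) (S.Ec C B) S.Ec_le fun σ hσ => hσ.2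
  have h2 := S.sum_card_stab (B := B) (A := B) (S.Ec B C) S.Ec_le fun σ hσ => S.E_smul_axis hσ.1
  simp only [S.card_Ec_eq h h.symm] at h1
  refine (Finset.sum_eq_sum_iff_of_le fun Y hY => S.card_stab_le h (Finset.ne_of_mem_erase hY)).1
    ?_ X (Finset.mem_erase.2 ⟨hX, Finset.mem_univ _⟩)
  exact h1.trans h2.symm

theorem fix_iff_zc_fix {B C : β} (h : B ≠ C) {X : β} (hX : X ≠ B) {ε : G} (hε : ε ∈ S.Ec B X)
    (hεC : ε • C ≠ C) {τ : G} (hτ : τ ∈ S.Ec C B) (hz : S.zc ε τ • X = X) : τ • X = X := by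
  let f : ↥(S.Ec C B ⊓ stabilizer G X) → ↥(S.Ec B C ⊓ stabilizer G X) := fun τ =>
    ⟨S.zc ε τ, S.zc_mem h hε.1 τ.2.1, S.zc_fix hε τ.2.2⟩
  have hinj : Function.Injective f := fun a b he =>
    Subtype.ext (S.zc_inj h hε.1 hεC a.2.1.1 b.2.1.1 (congrArg Subtype.val he))
  obtain ⟨τ₀, hτ₀⟩ := ((Nat.bijective_iff_injective_and_card f).2
    ⟨hinj, S.card_stab_eq h hX⟩).2 ⟨S.zc ε τ, S.zc_mem h hε.1 hτ, hz⟩
  have := S.zc_inj h hε.1 hεC τ₀.2.1.1 hτ.1 (congrArg Subtype.val hτ₀)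
  rw [← this]
  exact τ₀.2.2

theorem fix_translate' {B C : β} (h : B ≠ C) {ε τ : G} (hε : ε ∈ S.E B) (hτ : τ ∈ S.Ec C B) {X : β}
    (hfix : τ • X = X) : τ • (ε • X) = ε • X := by
  by_cases hX : X = B
  · rw [hX, S.E_smul_axis hε]; exact hτ.2
  have hεX : ε • X ≠ B := S.smul_ne_axis hε hX
  by_cases hle : S.Ec B X ≤ S.Ec B C
  · have heq : S.Ec B X = S.Ec B C :=
      Subgroup.eq_of_le_of_card_ge hle (by rw [S.card_Ec_eq h (Ne.symm hX)])
    have hc := S.card_stab_eq h hεX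
    have : S.Ec B C ⊓ stabilizer G (ε • X) = S.Ec B C := by
      refine inf_eq_left.2 fun σ hσ => ?_
      rw [← heq, ← S.Ec_translate hε] at hσ
      exact hσ.2
    rw [this, ← S.card_Ec_eq h h.symm] at hc
    have h' : S.Ec C B ⊓ stabilizer G (ε • X) = S.Ec C B :=
      Subgroup.eq_of_le_of_card_ge inf_le_left hc.ge
    exact (h'.symm ▸ hτ : τ ∈ S.Ec C B ⊓ stabilizer G (ε • X)).2
  · obtain ⟨ε', hε', hε'C⟩ := SetLike.not_le_iff_exists.1 hle
    have hε'C' : ε' • C ≠ C := fun he => hε'C ⟨hε'.1, he⟩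
    refine S.fix_iff_zc_fix h hεX (by rw [S.Ec_translate hε]; exact hε') hε'C' hτ ?_
    rw [S.fix_translate (S.zc_mem h hε'.1 hτ).1 hε]
    exact S.zc_fix hε' hfix

theorem Fb_zc {B C : β} (h : B ≠ C) {ε τ : G} (hε : ε ∈ S.E B) (hεC : ε • C ≠ C)
    (hτ : τ ∈ S.Ec C B) (hτ1 : τ ≠ 1) : S.zc ε τ ≠ 1 ∧ S.Fb (S.zc ε τ) = S.Fb τ := by
  have hz : S.zc ε τ ≠ 1 := fun he =>
    hτ1 (S.zc_inj h hε hεC hτ.1 (S.E C).one_mem (by rw [he]; simp [zc]))
  refine ⟨hz, (Set.eq_of_subset_of_ncard_le (fun X hX => ?_) ?_ (Set.toFinite _)).symm⟩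
  · have hX' : τ⁻¹ • X = X := inv_smul_eq_iff.2 (Eq.symm hX)
    show S.zc ε τ • X = X
    rw [zc, mul_smul, hX', mul_smul, mul_smul, S.fix_translate' h ((S.E B).inv_mem hε) hτ hX,
      smul_inv_smul]
  · rw [S.card_Fb (S.zc_mem h hε hτ).1 hz, S.card_Fb hτ.1 hτ1]

/-- Every nontrivial elation has a centre. -/
theorem exists_centre {B : β} {σ : G} (hσ : σ ∈ S.E B) (h1 : σ ≠ 1) :
    ∃ c ∈ S.pts B, ∀ X, σ • X = X ↔ c ∈ S.pts X := by
  have hm : ∀ C, C ≠ B → σ • C = C → ∀ x ∈ S.pts B, x ∉ S.pts C → S.mult σ x = S.lam := by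
    intro C hC hfix x _ hxC
    obtain ⟨ε, hε, hεC⟩ := S.exists_not_mem_Ec hC.symm
    have hεC' : ε • C ≠ C := fun he => hεC ⟨hε, he⟩
    obtain ⟨τ, hτ, hz⟩ := S.zc_surj hC.symm hε hεC' (S.mem_Ec.2 ⟨hσ, hfix⟩)
    have hτ1 : τ ≠ 1 := fun he => h1 (by rw [← hz, he]; simp [zc])
    obtain ⟨-, hFb⟩ := S.Fb_zc hC.symm hε hεC' hτ hτ1
    rw [hz] at hFb
    have hFb' : ∀ X, σ • X = X ↔ τ • X = X := fun X => by
      have := Set.ext_iff.1 hFb X
      exact this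
    rw [← S.mult_out hτ.1 hτ1 hxC]
    exact congrArg Set.ncard (Set.ext fun X => and_congr_left fun _ => hFb' X)
  obtain ⟨C₀, hC₀, hfix₀⟩ := S.exists_fixed_blk hσ h1
  obtain ⟨c, hc, hcm⟩ : ∃ x ∈ S.pts C₀ ∩ S.pts B, S.mult σ x ≠ S.lam := by
    by_contra! hall
    have e := S.sum_mult hσ h1 hC₀
    rw [if_pos hfix₀, Finset.sum_congr rfl (g := fun _ => S.lam)
      (fun x hx => hall x (by rwa [Set.Finite.mem_toFinset] at hx)), Finset.sum_const, smul_eq_mul,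
      ← Set.ncard_eq_toFinset_card, S.card_inter _ _ hC₀] at e
    have := S.lam_lt
    omega
  refine ⟨c, hc.2, fun X => ?_⟩
  have hsub : S.Fb σ ⊆ {X | c ∈ S.pts X} := by
    intro X hX
    by_cases hXB : X = B
    · rw [hXB]; exact hc.2
    exact by_contra fun hcX => hcm (hm X hXB hX c hc.2 hcX)
  have heq : S.Fb σ = {X | c ∈ S.pts X} :=
    Set.eq_of_subset_of_ncard_le hsub (by rw [S.card_blks, S.card_Fb hσ h1]) (Set.toFinite _)
  exact Set.ext_iff.1 heq X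

end Sys

end Cfsg.Agent.AxialDesign
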