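import Cfsg.Agent.Lib.AxialDesign.Space

/-!
# Flats, separation, realisation and frames

Flats (unions of the groups `SG B c`) are closed under joins and are separated by blocks. An element
acting on `E B` like a transvection acts there like an elation, and `E B` has a basis of groups
`SG B (c i)` with dual blocks `C j` through a common point `x₀` off `B`.
-/

set_option autoImplicit false
set_option linter.unusedSectionVars false

open scoped Classical Pointwise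
open MulAction

namespace Cfsg.Agent.AxialDesign

namespace Sys

variable {G P β : Type*} [Group G] [MulAction G P] [MulAction G β] (S : Sys G P β)
  [Finite P] [Finite β] [Finite G] [FaithfulSMul G P]

theorem mem_sup_E {B : β} {U V : Subgroup G} (hU : U ≤ S.E B) (hV : V ≤ S.E B) {σ : G}
    (hσ : σ ∈ U ⊔ V) : ∃ u ∈ U, ∃ v ∈ V, σ = u * v := by
  let W : Subgroup G :=
    { carrier := {σ | ∃ u ∈ U, ∃ v ∈ V, σ = u * v}
      one_mem' := ⟨1, U.one_mem, 1, V.one_mem, (one_mul 1).symm⟩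
      mul_mem' := by
        rintro _ _ ⟨u, hu, v, hv, rfl⟩ ⟨u', hu', v', hv', rfl⟩
        refine ⟨u * u', U.mul_mem hu hu', v * v', V.mul_mem hv hv', ?_⟩
        rw [mul_assoc, ← mul_assoc v, S.E_comm (hV hv) (hU hu'), mul_assoc u', ← mul_assoc]
      inv_mem' := by
        rintro _ ⟨u, hu, v, hv, rfl⟩
        exact ⟨u⁻¹, U.inv_mem hu, v⁻¹, V.inv_mem hv, by
          rw [mul_inv_rev]; exact S.E_comm ((S.E B).inv_mem (hV hv)) ((S.E B).inv_mem (hU hu))⟩ }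
  exact sup_le (c := W) (fun u hu => ⟨u, hu, 1, V.one_mem, (mul_one u).symm⟩)
    (fun v hv => ⟨1, U.one_mem, v, hv, (one_mul v).symm⟩) hσ

theorem card_sup_le {B : β} {U V : Subgroup G} (hU : U ≤ S.E B) (hV : V ≤ S.E B) :
    Nat.card ↥(U ⊔ V) ≤ Nat.card U * Nat.card V := by
  rw [← Nat.card_prod]
  refine Nat.card_le_card_of_surjective
    (fun x : U × V => (⟨x.1.1 * x.2.1, Subgroup.mul_mem_sup x.1.2 x.2.2⟩ : ↥(U ⊔ V))) fun σ => ?_
  obtain ⟨u, hu, v, hv, he⟩ := S.mem_sup_E hU hV σ.2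
  exact ⟨(⟨u, hu⟩, ⟨v, hv⟩), Subtype.ext he.symm⟩

theorem card_mul_le_sup {U V : Subgroup G} (h : U ⊓ V = ⊥) :
    Nat.card U * Nat.card V ≤ Nat.card ↥(U ⊔ V) := by
  rw [← Nat.card_prod]
  refine Nat.card_le_card_of_injective
    (fun x : U × V => (⟨x.1.1 * x.2.1, Subgroup.mul_mem_sup x.1.2 x.2.2⟩ : ↥(U ⊔ V))) ?_
  rintro ⟨⟨a, ha⟩, ⟨b, hb⟩⟩ ⟨⟨a', ha'⟩, ⟨b', hb'⟩⟩ he
  have he' : a * b = a' * b' := congrArg Subtype.val he
  have hm : a'⁻¹ * a = b' * b⁻¹ := by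
    rw [inv_mul_eq_iff_eq_mul, ← mul_assoc, ← he', mul_inv_cancel_right]
  have h1 : a'⁻¹ * a = 1 := by
    rw [← Subgroup.mem_bot, ← h]
    exact ⟨U.mul_mem (U.inv_mem ha') ha, by rw [hm]; exact V.mul_mem hb' (V.inv_mem hb)⟩
  obtain rfl : a = a' := (eq_of_inv_mul_eq_one h1).symm
  obtain rfl : b = b' := mul_left_cancel he'
  rfl

theorem inf_SG_eq_bot {B : β} {U : Subgroup G} (hU : S.Flat B U) {c : P} (hc : ¬ S.SG B c ≤ U) :
    U ⊓ S.SG B c = ⊥ :=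
  eq_bot_iff.2 fun σ hσ => Subgroup.mem_bot.2 (by_contra fun h1 => hc (hU.2 c ⟨σ, hσ.1, h1, hσ.2⟩))

theorem SG_inf_SG {B : β} {c d : P} (h : c ≠ d) : S.SG B c ⊓ S.SG B d = ⊥ :=
  eq_bot_iff.2 fun _ hσ => Subgroup.mem_bot.2 (by_contra fun h1 => h (S.centre_unique hσ.1 hσ.2 h1))

theorem card_SG_sup {B : β} {c d : P} (hc : c ∈ S.pts B) (hd : d ∈ S.pts B) (h : c ≠ d) :
    Nat.card ↥(S.SG B c ⊔ S.SG B d) = S.q B * S.q B :=
  le_antisymm ((S.card_sup_le S.SG_le S.SG_le).trans_eq (by rw [S.card_SG hc, S.card_SG hd]))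
    (le_of_eq_of_le (by rw [S.card_SG hc, S.card_SG hd]) (card_mul_le_sup (S.SG_inf_SG h)))

/-- Stabilisers of blocks in subgroups of `E B` have index at most `q`. -/
theorem card_le_q_mul {B : β} {W : Subgroup G} (hW : W ≤ S.E B) {X : β} (hX : X ≠ B) :
    Nat.card W ≤ S.q B * Nat.card ↥(W ⊓ stabilizer G X) := by
  have h : Nat.card (stabilizer W X) = Nat.card ↥(W ⊓ stabilizer G X) :=
    Nat.card_congr ⟨fun σ => ⟨σ.1.1, σ.1.2, σ.2⟩, fun σ => ⟨⟨σ.1, σ.2.1⟩, σ.2.2⟩,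
      fun _ => rfl, fun _ => rfl⟩
  have h1 : (orbit W X).ncard ≤ (orbit (S.E B) X).ncard :=
    Set.ncard_le_ncard (fun Y ⟨σ, hσ⟩ => ⟨⟨σ, hW σ.2⟩, hσ⟩) (Set.toFinite _)
  have h2 : (orbit (S.E B) X).ncard = S.q B := by
    have e := S.card_orbit_blk (B := B) (C := X)
    rw [(S.sizes B).1 X hX.symm] at e
    exact Nat.eq_of_mul_eq_mul_right Nat.card_pos e
  rw [← (stabilizer W X).card_mul_index, index_stabilizer, h, mul_comm]
  exact Nat.mul_le_mul_right _ (h1.trans_eq h2)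

/-- The plane of two centres. -/
theorem mem_SG_sup {B : β} {c d : P} (hc : c ∈ S.pts B) (hd : d ∈ S.pts B) (hcd : c ≠ d) {σ : G}
    (hσ : σ ∈ S.E B) (hfix : ∀ X, c ∈ S.pts X → d ∈ S.pts X → σ • X = X) :
    σ ∈ S.SG B c ⊔ S.SG B d := by
  let O : Subgroup G :=
    { carrier := {σ | σ ∈ S.E B ∧ ∀ X, c ∈ S.pts X → d ∈ S.pts X → σ • X = X}
      one_mem' := ⟨(S.E B).one_mem, fun _ _ _ => one_smul _ _⟩
      mul_mem' := fun {a b} ha hb => ⟨(S.E B).mul_mem ha.1 hb.1, fun X h1 h2 => by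
        rw [mul_smul, hb.2 X h1 h2, ha.2 X h1 h2]⟩
      inv_mem' := fun {a} ha => ⟨(S.E B).inv_mem ha.1, fun X h1 h2 => by
        rw [inv_smul_eq_iff, ha.2 X h1 h2]⟩ }
  obtain ⟨X, hXd, hXc⟩ : ∃ X, d ∈ S.pts X ∧ c ∉ S.pts X := by
    by_contra! hall
    have : ({X | d ∈ S.pts X} : Set β).ncard ≤ S.lam := by
      rw [← S.card_pair c d hcd]
      exact Set.ncard_le_ncard (fun X hX => ⟨hall X hX, hX⟩) (Set.toFinite _)
    rw [S.card_blks] at this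
    have := S.lam_lt
    omega
  have hXB : X ≠ B := fun h => hXc (h ▸ hc)
  have hsub : O ⊓ stabilizer G X ≤ S.SG B d := by
    rintro τ ⟨hτ, hτX⟩
    by_cases h1 : τ = 1
    · rw [h1]; exact (S.SG B d).one_mem
    obtain ⟨y, hy, hτy⟩ := S.exists_SG hτ.1 h1
    by_cases hyd : y = d
    · exact hyd ▸ hτy
    exfalso
    have hyX : y ∈ S.pts X := (S.SG_fix_iff hτy h1 X).1 hτX
    have hyc : y ≠ c := fun h => hXc (h ▸ hyX)
    have hys : ∀ Y, c ∈ S.pts Y → d ∈ S.pts Y → y ∈ S.pts Y := fun Y h1' h2' =>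
      (S.SG_fix_iff hτy h1 Y).1 (hτ.2 Y h1' h2')
    have e : {Y | c ∈ S.pts Y ∧ d ∈ S.pts Y} = {Y | d ∈ S.pts Y ∧ y ∈ S.pts Y} :=
      Set.eq_of_subset_of_ncard_le (fun Y hY => ⟨hY.2, hys Y hY.1 hY.2⟩)
        (by rw [S.card_pair c d hcd, S.card_pair d y (Ne.symm hyd)]) (Set.toFinite _)
    have hXmem : X ∈ {Y | d ∈ S.pts Y ∧ y ∈ S.pts Y} := ⟨hXd, hyX⟩
    rw [← e] at hXmem
    exact hXc hXmem.1
  have hOle : O ≤ S.E B := fun τ hτ => hτ.1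
  have hcard : Nat.card O ≤ S.q B * S.q B :=
    (S.card_le_q_mul hOle hXB).trans (Nat.mul_le_mul_left _
      ((Subgroup.card_le_of_le hsub).trans_eq (S.card_SG hd)))
  have hle : S.SG B c ⊔ S.SG B d ≤ O :=
    sup_le (fun τ hτ => ⟨hτ.1, fun Y h1 _ => hτ.2 Y h1⟩) (fun τ hτ => ⟨hτ.1, fun Y _ h2 => hτ.2 Y h2⟩)
  have heq := Subgroup.eq_of_le_of_card_ge hle (by rw [S.card_SG_sup hc hd hcd]; exact hcard)
  rw [heq]
  exact ⟨hσ, hfix⟩

/-- If a nontrivial element of `SG B y` is a product from `SG B a` and `SG B c` then so is all of it. -/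
theorem SG_le_sup {B : β} {a c y : P} (ha : a ∈ S.pts B) (hc : c ∈ S.pts B) (hac : a ≠ c) {σ : G}
    (hσ : σ ∈ S.SG B a ⊔ S.SG B c) (hσy : σ ∈ S.SG B y) (h1 : σ ≠ 1) :
    S.SG B y ≤ S.SG B a ⊔ S.SG B c := by
  intro τ hτ
  refine S.mem_SG_sup ha hc hac hτ.1 fun X hXa hXc => hτ.2 X ((S.SG_fix_iff hσy h1 X).1 ?_)
  have : S.SG B a ⊔ S.SG B c ≤ stabilizer G X :=
    sup_le (fun ρ hρ => hρ.2 X hXa) (fun ρ hρ => hρ.2 X hXc)
  exact this hσ

theorem flat_bot (B : β) : S.Flat B ⊥ :=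
  ⟨bot_le, fun _ ⟨_, hσ, h1, _⟩ => absurd (Subgroup.mem_bot.1 hσ) h1⟩

theorem flat_sup {B : β} {U : Subgroup G} (hU : S.Flat B U) {c : P} (hc : c ∈ S.pts B) :
    S.Flat B (U ⊔ S.SG B c) := by
  refine ⟨sup_le hU.1 S.SG_le, ?_⟩
  rintro y ⟨σ, hσ, h1, hσy⟩
  obtain ⟨u, hu, v, hv, rfl⟩ := S.mem_sup_E hU.1 S.SG_le hσ
  by_cases hu1 : u = 1
  · rw [hu1, one_mul] at hσy h1
    rw [S.centre_unique hσy hv h1]
    exact le_sup_right
  obtain ⟨a, ha, hua⟩ := S.exists_SG (hU.1 hu) hu1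
  have haU : S.SG B a ≤ U := hU.2 a ⟨u, hu, hu1, hua⟩
  by_cases hac : a = c
  · have hv' : v ∈ U := haU (hac ▸ hv)
    exact le_sup_of_le_left (hU.2 y ⟨u * v, U.mul_mem hu hv', h1, hσy⟩)
  exact (S.SG_le_sup ha hc hac (Subgroup.mul_mem_sup hua hv) hσy h1).trans (sup_le_sup_right haU _)

/-- Flats are separated by blocks. -/
theorem separation {B : β} {U : Subgroup G} (hU : S.Flat B U) {c : P} (hc : c ∈ S.pts B)
    (hcU : ¬ S.SG B c ≤ U) : ∃ C, C ≠ B ∧ U ≤ stabilizer G C ∧ c ∉ S.pts C := by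
  induction hn : Nat.card U using Nat.strong_induction_on generalizing U c with
  | _ n ih =>
  by_cases hbot : U = ⊥
  · obtain ⟨C, hC⟩ : ∃ C, c ∉ S.pts C := by
      by_contra! hall
      have h := S.card_blks c
      rw [Set.eq_univ_of_forall (s := {X | c ∈ S.pts X}) hall, Set.ncard_univ, S.card_eq] at h
      have := S.two_le_compl
      omega
    exact ⟨C, fun h => hC (h ▸ hc), hbot ▸ bot_le, hC⟩
  -- a maximal proper flat `U'` of `U`
  have : Finite (Subgroup G) := Finite.of_injective _ SetLike.coe_injective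
  obtain ⟨U', ⟨hU'f, hU'lt⟩, hmax⟩ := Set.Finite.exists_maximalFor (fun V : Subgroup G => Nat.card V)
    {V : Subgroup G | S.Flat B V ∧ V < U} (Set.toFinite _) ⟨⊥, S.flat_bot B, bot_lt_iff_ne_bot.2 hbot⟩
  obtain ⟨σ, hσU, hσU'⟩ := SetLike.exists_of_lt hU'lt
  have hσ1 : σ ≠ 1 := fun h => hσU' (h ▸ U'.one_mem)
  obtain ⟨i, hi, hσi⟩ := S.exists_SG (hU.1 hσU) hσ1
  have hiU : S.SG B i ≤ U := hU.2 i ⟨σ, hσU, hσ1, hσi⟩
  have hUeq : U' ⊔ S.SG B i = U := by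
    by_contra hne
    have hlt : U' < U' ⊔ S.SG B i := lt_of_le_of_ne le_sup_left fun h => hσU' (by
      have : σ ∈ U' ⊔ S.SG B i := Subgroup.mem_sup_right hσi
      rwa [← h] at this)
    have hmem : U' ⊔ S.SG B i ∈ {V : Subgroup G | S.Flat B V ∧ V < U} :=
      ⟨S.flat_sup hU'f hi, lt_of_le_of_ne (sup_le hU'lt.le hiU) hne⟩
    exact hlt.ne (Subgroup.eq_of_le_of_card_ge hlt.le (hmax hmem (Subgroup.card_le_of_le hlt.le)))
  have hiU' : ¬ S.SG B i ≤ U' := fun h => hσU' (h hσi)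
  have hlt' : Nat.card U' < n := by
    rw [← hn]
    exact lt_of_le_of_ne (Subgroup.card_le_of_le hU'lt.le) fun h =>
      hU'lt.ne (Subgroup.eq_of_le_of_card_ge hU'lt.le h.ge)
  obtain ⟨C₀, hC₀, hU'C₀, hiC₀⟩ := ih _ hlt' hU'f hi hiU' rfl
  have hic : i ≠ c := fun h => hcU (h ▸ hiU)
  set W := S.SG B i ⊔ S.SG B c with hW
  have hWE : W ≤ S.E B := sup_le S.SG_le S.SG_le
  have hWfix : ∀ X, i ∈ S.pts X → c ∈ S.pts X → W ≤ stabilizer G X := fun X h1 h2 =>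
    sup_le (fun ρ hρ => hρ.2 X h1) (fun ρ hρ => hρ.2 X h2)
  have hnt : ∀ X, X ≠ B → ∃ y ∈ S.pts B, y ∈ S.pts X ∧ S.SG B y ≤ W := by
    intro X hX
    have hle := S.card_le_q_mul hWE hX
    rw [S.card_SG_sup hi hc hic] at hle
    have h1 : S.q B ≤ Nat.card ↥(W ⊓ stabilizer G X) :=
      Nat.le_of_mul_le_mul_left hle (by have := S.two_le_q B; omega)
    have h2 : W ⊓ stabilizer G X ≠ ⊥ := fun h => by
      rw [h, Subgroup.card_bot] at h1; have := S.two_le_q B; omega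
    obtain ⟨⟨ρ, hρW, hρX⟩, hρ1⟩ := Subgroup.ne_bot_iff_exists_ne_one.1 h2
    have hρ1' : ρ ≠ 1 := fun h => hρ1 (Subtype.ext h)
    obtain ⟨y, hy, hρy⟩ := S.exists_SG (hWE hρW) hρ1'
    exact ⟨y, hy, (S.SG_fix_iff hρy hρ1' X).1 hρX, S.SG_le_sup hi hc hic hρW hρy hρ1'⟩
  obtain ⟨y, hy, hyC₀, hyW⟩ := hnt C₀ hC₀
  have hyi : y ≠ i := fun h => hiC₀ (h ▸ hyC₀)
  have hWy : S.SG B i ⊔ S.SG B y = W :=
    Subgroup.eq_of_le_of_card_ge (sup_le le_sup_left hyW)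
      (by rw [S.card_SG_sup hi hc hic, S.card_SG_sup hi hy hyi.symm])
  have hyU' : ¬ S.SG B y ≤ U' := fun h => hcU (by
    have h' : W ≤ U := hWy ▸ sup_le hiU (h.trans hU'lt.le)
    exact le_sup_right.trans h')
  obtain ⟨C₁, hC₁, hU'C₁, hyC₁⟩ := ih _ hlt' hU'f hy hyU' rfl
  by_cases hiC₁ : i ∈ S.pts C₁
  · refine ⟨C₁, hC₁, hUeq ▸ sup_le hU'C₁ (fun ρ hρ => hρ.2 C₁ hiC₁), fun hcC₁ => ?_⟩
    obtain ⟨ρ, hρ, hρ1⟩ := S.exists_ne_one_mem_SG hy
    exact hyC₁ ((S.SG_fix_iff hρ hρ1 C₁).1 (hWfix C₁ hiC₁ hcC₁ (hyW hρ)))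
  obtain ⟨p, hp, hpC₁, hpW⟩ := hnt C₁ hC₁
  have hpy : p ≠ y := fun h => hyC₁ (h ▸ hpC₁)
  have hpi : p ≠ i := fun h => hiC₁ (h ▸ hpC₁)
  have hpC₀ : p ∉ S.pts C₀ := fun h => by
    have hW' : S.SG B p ⊔ S.SG B y = W := Subgroup.eq_of_le_of_card_ge (sup_le hpW hyW)
      (by rw [S.card_SG_sup hi hc hic, S.card_SG_sup hp hy hpy])
    obtain ⟨ρ, hρ, hρ1⟩ := S.exists_ne_one_mem_SG hi
    have hρW : ρ ∈ S.SG B p ⊔ S.SG B y := by rw [hW']; exact Subgroup.mem_sup_left hρ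
    have hle : S.SG B p ⊔ S.SG B y ≤ stabilizer G C₀ :=
      sup_le (fun π hπ => hπ.2 C₀ h) (fun π hπ => hπ.2 C₀ hyC₀)
    exact hiC₀ ((S.SG_fix_iff hρ hρ1 C₀).1 (hle hρW))
  obtain ⟨π, hπ, hπ1⟩ := S.exists_ne_one_mem_SG hp
  have hπW : π ∈ S.SG B i ⊔ S.SG B y := by rw [hWy]; exact hpW hπ
  obtain ⟨ι, hι, η, hη, hπe⟩ := S.mem_sup_E S.SG_le S.SG_le hπW
  have hι1 : ι ≠ 1 := fun h => by
    rw [h, one_mul] at hπe
    exact hpy (S.centre_unique hπ (hπe ▸ hη) hπ1)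
  have hπC₀ : π • C₀ ≠ C₀ := fun h => hpC₀ ((S.SG_fix_iff hπ hπ1 C₀).1 h)
  obtain ⟨τ, hτ, hz⟩ := S.zc_surj hC₀.symm hπ.1 hπC₀
    (S.mem_Ec.2 ⟨hη.1, hη.2 C₀ hyC₀⟩ : η ∈ S.Ec B C₀)
  have hτπ : τ * π * τ⁻¹ = ι := by
    have hz' : τ * π⁻¹ * τ⁻¹ = π⁻¹ * η := by rw [← hz]; simp only [zc]; group
    calc τ * π * τ⁻¹ = (τ * π⁻¹ * τ⁻¹)⁻¹ := by group
      _ = (π⁻¹ * η)⁻¹ := by rw [hz']
      _ = η⁻¹ * π := by group
      _ = η⁻¹ * (η * ι) := by rw [hπe, S.E_comm hι.1 hη.1]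
      _ = ι := inv_mul_cancel_left η ι
  have hτp : τ • p = i := by
    have h := S.conj_mem_SG (g := τ) hπ
    rw [hτπ, hτ.2] at h
    exact S.centre_unique h hι hι1
  refine ⟨τ • C₁, fun h => hC₁ (MulAction.injective τ (h.trans hτ.2.symm)), ?_, ?_⟩
  · have hiC₂ : i ∈ S.pts (τ • C₁) := by rw [← hτp, S.smul_mem]; exact hpC₁
    rw [← hUeq]
    refine sup_le (fun ρ hρ => ?_) (fun ρ hρ => hρ.2 _ hiC₂)
    by_cases hρ1 : ρ = 1
    · rw [hρ1]; exact one_mem _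
    obtain ⟨a, ha, hρa⟩ := S.exists_SG (hU'f.1 hρ) hρ1
    have haC₀ : a ∈ S.pts C₀ := (S.SG_fix_iff hρa hρ1 C₀).1 (hU'C₀ hρ)
    have haC₁ : a ∈ S.pts C₁ := (S.SG_fix_iff hρa hρ1 C₁).1 (hU'C₁ hρ)
    exact hρa.2 _ ((S.mem_smul_of_fix (S.E_fix hτ.1 haC₀)).2 haC₁)
  · intro hcC₂
    have hiC₂ : i ∈ S.pts (τ • C₁) := by rw [← hτp, S.smul_mem]; exact hpC₁
    obtain ⟨ρ, hρ, hρ1⟩ := S.exists_ne_one_mem_SG hy
    have := (S.SG_fix_iff hρ hρ1 _).1 (hWfix _ hiC₂ hcC₂ (hyW hρ))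
    exact hyC₁ ((S.mem_smul_of_fix (S.E_fix hτ.1 hyC₀)).1 this)

/-- An element acting on `E B` as a transvection with axis `Ec B C` acts as an elation in `Ec C B`. -/
theorem realise {B C : β} {h : G} (hhB : h • B = B) (hC : C ≠ B)
    (hfix : ∀ σ ∈ S.Ec B C, h * σ * h⁻¹ = σ)
    (hcomm : ∀ ε ∈ S.E B, h * ε * h⁻¹ * ε⁻¹ ∈ S.Ec B C)
    (hmove : ∀ ε ∈ S.E B, h * ε * h⁻¹ = ε → ε ∈ S.Ec B C) :
    ∃ τ ∈ S.Ec C B, ∀ ε ∈ S.E B, τ * ε * τ⁻¹ = h * ε * h⁻¹ := by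
  obtain ⟨x, hxC, hxB⟩ : ∃ x ∈ S.pts C, x ∉ S.pts B := by
    by_contra! hall
    exact hC (S.pts_inj (Set.eq_of_subset_of_ncard_le hall (by rw [S.card_pts, S.card_pts]) (Set.toFinite _)))
  have hhx : h • x ∉ S.pts B := by
    rw [← hhB, S.smul_mem]
    exact hxB
  obtain ⟨e, he, hex⟩ := S.E_regular hhx hxB
  set h₀ := e * h with hh₀
  have hconj : ∀ ε ∈ S.E B, h₀ * ε * h₀⁻¹ = h * ε * h⁻¹ := by
    intro ε hε
    have hm : h * ε * h⁻¹ ∈ S.E B := S.conj_mem_E_self hhB hε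
    calc h₀ * ε * h₀⁻¹ = e * (h * ε * h⁻¹) * e⁻¹ := by rw [hh₀]; group
      _ = h * ε * h⁻¹ := by rw [S.E_comm he hm, mul_inv_cancel_right]
  have h₀B : h₀ • B = B := by rw [hh₀, mul_smul, hhB, S.E_smul_axis he]
  have h₀x : h₀ • x = x := by rw [hh₀, mul_smul, hex]
  have hout : ∀ ε ∈ S.E B, h₀ • ε • x = (h * ε * h⁻¹) • x := by
    intro ε hε
    rw [← hconj ε hε, mul_smul (h₀ * ε), inv_smul_eq_iff.2 h₀x.symm, mul_smul h₀]
  -- the points of `C` off `B`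
  have hCB : ∀ y ∈ S.pts C, y ∉ S.pts B → ∃ σ ∈ S.Ec B C, σ • x = y := by
    intro y hy hyB
    let f : S.Ec B C → ↥(S.pts C \ S.pts B) := fun σ => ⟨(σ : G) • x,
      by
        have := (S.smul_mem (σ : G) x C).2 hxC
        rwa [σ.2.2] at this,
      fun hc => hxB ((S.smul_mem (σ : G) x B).1 (by rwa [S.E_smul_axis σ.2.1]))⟩
    have hinj : Function.Injective f := fun σ τ heq => by
      have h' : (σ : G) • x = (τ : G) • x := congrArg Subtype.val heq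
      exact Subtype.ext (eq_of_inv_mul_eq_one (S.E_semireg
        ((S.E B).mul_mem ((S.E B).inv_mem τ.2.1) σ.2.1) hxB (by rw [mul_smul, h', inv_smul_smul]))).symm
    have hcard : Nat.card (S.Ec B C) = Nat.card ↥(S.pts C \ S.pts B) := by
      rw [S.card_Ec hC.symm, Nat.card_coe_set_eq]
      have h1 := Set.ncard_inter_add_ncard_sdiff_eq_ncard (S.pts C) (S.pts B) (Set.toFinite _)
      rw [S.card_pts, S.card_inter C B hC] at h1
      obtain ⟨-, hk, -⟩ := S.sizes B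
      obtain ⟨r, hr⟩ : ∃ r, S.q B = r + 1 := ⟨S.q B - 1, by have := S.two_le_q B; omega⟩
      rw [hr, Nat.add_sub_cancel]
      rw [hr, add_mul, one_mul, mul_comm r] at hk
      omega
    obtain ⟨σ, hσ⟩ := ((Nat.bijective_iff_injective_and_card f).2 ⟨hinj, hcard⟩).2 ⟨y, hy, hyB⟩
    exact ⟨σ, σ.2, congrArg Subtype.val hσ⟩
  have hfixC : ∀ y ∈ S.pts C, h₀ • y = y := by
    intro y hy
    by_cases hyB : y ∈ S.pts B
    · obtain ⟨σ, hσ, hσ1⟩ := S.exists_ne_one_mem_SG hyB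
      have h' := S.conj_mem_SG (g := h₀) hσ
      rw [h₀B, hconj σ hσ.1, hfix σ ((S.SG_le_Ec_iff hyB).2 hy hσ)] at h'
      exact S.centre_unique h' hσ hσ1
    · obtain ⟨σ, hσ, rfl⟩ := hCB y hy hyB
      rw [hout σ hσ.1, hfix σ hσ]
  have hmem : h₀ ∈ S.E C := by
    refine S.mem_E.2 ⟨hfixC, Or.inr fun y hy => ?_⟩
    by_contra hyC
    by_cases hyB : y ∈ S.pts B
    · obtain ⟨σ, hσ, hσ1⟩ := S.exists_ne_one_mem_SG hyB
      have h' := S.conj_mem_SG (g := h₀) hσ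
      rw [h₀B, hy, hconj σ hσ.1] at h'
      have hd : h * σ * h⁻¹ * σ⁻¹ ∈ S.SG B y := (S.SG B y).mul_mem h' ((S.SG B y).inv_mem hσ)
      have hd1 : h * σ * h⁻¹ * σ⁻¹ = 1 := by_contra fun hne =>
        hyC ((S.SG_fix_iff hd hne C).1 (hcomm σ hσ.1).2)
      exact hyC ((S.SG_fix_iff hσ hσ1 C).1 (hmove σ hσ.1 (mul_inv_eq_one.1 hd1)).2)
    · obtain ⟨ε, hε, rfl⟩ := S.E_regular hxB hyB
      rw [hout ε hε] at hy
      have he' := eq_of_inv_mul_eq_one (S.E_semireg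
        ((S.E B).mul_mem ((S.E B).inv_mem hε) (S.conj_mem_E_self hhB hε)) hxB
        (by rw [mul_smul, hy, inv_smul_smul]))
      have := (S.smul_mem ε x C).2 hxC
      rw [(hmove ε hε he'.symm).2] at this
      exact hyC this
  exact ⟨h₀, ⟨hmem, h₀B⟩, hconj⟩

/-- A basis of `E B` by groups of elations with dual blocks through a common point. -/
structure Frame (B : β) where
  m : ℕ
  c : Fin m → P
  C : Fin m → β
  x₀ : P
  two_le : 2 ≤ m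
  x₀_not_mem : x₀ ∉ S.pts B
  c_mem : ∀ i, c i ∈ S.pts B
  C_ne : ∀ j, C j ≠ B
  x₀_mem : ∀ j, x₀ ∈ S.pts (C j)
  c_mem_C : ∀ i j, c i ∈ S.pts (C j) ↔ i ≠ j
  span : ∀ U : Subgroup G, (∀ i, S.SG B (c i) ≤ U) → S.E B ≤ U
  card_E : Nat.card (S.E B) = S.q B ^ m

theorem flat_finset_sup {B : β} (T : Finset P) (hT : ∀ c ∈ T, c ∈ S.pts B) :
    S.Flat B (T.sup (S.SG B)) ∧ Nat.card ↥(T.sup (S.SG B)) ≤ S.q B ^ T.card := by
  induction T using Finset.induction with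
  | empty => simp [S.flat_bot B]
  | @insert a T ha ih =>
    obtain ⟨h1, h2⟩ := ih fun c hc => hT c (Finset.mem_insert_of_mem hc)
    have haB := hT a (Finset.mem_insert_self a T)
    rw [Finset.sup_insert, sup_comm, Finset.card_insert_of_notMem ha, pow_succ]
    refine ⟨S.flat_sup h1 haB, ?_⟩
    calc Nat.card ↥(T.sup (S.SG B) ⊔ S.SG B a) ≤ Nat.card ↥(T.sup (S.SG B)) * Nat.card (S.SG B a) :=
          S.card_sup_le h1.1 S.SG_le
      _ ≤ _ := Nat.mul_le_mul h2 (S.card_SG haB).le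

theorem exists_frame (B : β) : Nonempty (S.Frame B) := by
  have := Fintype.ofFinite P
  obtain ⟨T, ⟨hTB, hTc⟩, hmax⟩ := Set.Finite.exists_maximalFor (fun T : Finset P => T.card)
    {T : Finset P | (∀ c ∈ T, c ∈ S.pts B) ∧ Nat.card ↥(T.sup (S.SG B)) = S.q B ^ T.card}
    (Set.toFinite _) ⟨∅, by simp⟩
  obtain ⟨hflat, -⟩ := S.flat_finset_sup T hTB
  have htop : S.E B ≤ T.sup (S.SG B) := by
    intro σ hσ
    by_contra hσU
    have hσ1 : σ ≠ 1 := fun h => hσU (h ▸ one_mem _)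
    obtain ⟨a, ha, hσa⟩ := S.exists_SG hσ hσ1
    have haU : ¬ S.SG B a ≤ T.sup (S.SG B) := fun h => hσU (h hσa)
    have haT : a ∉ T := fun h => haU (Finset.le_sup h)
    have hcard : Nat.card ↥((insert a T).sup (S.SG B)) = S.q B ^ (insert a T).card := by
      refine le_antisymm (S.flat_finset_sup (insert a T) ?_).2 ?_
      · intro c hc
        rcases Finset.mem_insert.1 hc with rfl | h
        · exact ha
        · exact hTB c h
      · rw [Finset.sup_insert, sup_comm, Finset.card_insert_of_notMem haT, pow_succ, ← hTc,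
          ← S.card_SG ha]
        exact card_mul_le_sup (S.inf_SG_eq_bot hflat haU)
    have := hmax (j := insert a T) ⟨fun c hc => by
      rcases Finset.mem_insert.1 hc with rfl | h
      · exact ha
      · exact hTB c h, hcard⟩ (Finset.card_le_card (Finset.subset_insert a T))
    simp only [Finset.card_insert_of_notMem haT] at this
    omega
  have hE : Nat.card (S.E B) = S.q B ^ T.card := by
    rw [← hTc]
    exact congrArg (fun U : Subgroup G => Nat.card U) (le_antisymm htop hflat.1)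
  obtain ⟨x₀, hx₀⟩ : ∃ x₀, x₀ ∉ S.pts B := by
    by_contra! hall
    have h := S.card_pts B
    rw [Set.eq_univ_of_forall hall, Set.ncard_univ] at h
    have := S.two_le_compl
    omega
  have hdual : ∀ a ∈ T, ∃ C, C ≠ B ∧ x₀ ∈ S.pts C ∧ ∀ b ∈ T, (b ∈ S.pts C ↔ b ≠ a) := by
    intro a haT
    have hsub : ∀ c ∈ T.erase a, c ∈ S.pts B := fun c hc => hTB c (Finset.mem_of_mem_erase hc)
    obtain ⟨hf, hle⟩ := S.flat_finset_sup (T.erase a) hsub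
    have hnot : ¬ S.SG B a ≤ (T.erase a).sup (S.SG B) := by
      intro h
      have h' : T.sup (S.SG B) ≤ (T.erase a).sup (S.SG B) := by
        refine Finset.sup_le fun b hb => ?_
        by_cases hba : b = a
        · exact hba ▸ h
        · exact Finset.le_sup (f := S.SG B) (Finset.mem_erase.2 ⟨hba, hb⟩)
      have h1 := (Subgroup.card_le_of_le h').trans hle
      rw [hTc, Finset.card_erase_of_mem haT,
        Nat.pow_le_pow_iff_right (S.two_le_q B)] at h1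
      have := Finset.card_pos.2 ⟨a, haT⟩
      omega
    obtain ⟨C, hC, hUC, haC⟩ := S.separation hf (hTB a haT) hnot
    obtain ⟨y, hyC, hyB⟩ : ∃ y ∈ S.pts C, y ∉ S.pts B := by
      by_contra! hall
      exact hC (S.pts_inj (Set.eq_of_subset_of_ncard_le hall (by rw [S.card_pts, S.card_pts]) (Set.toFinite _)))
    obtain ⟨ε, hε, rfl⟩ := S.E_regular hyB hx₀
    refine ⟨ε • C, S.smul_ne_axis hε hC, (S.smul_mem ε y C).2 hyC, fun b hb => ?_⟩
    rw [S.mem_smul_of_fix (S.E_fix hε (hTB b hb))]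
    refine ⟨fun h1 h2 => haC (h2 ▸ h1), fun hba => ?_⟩
    obtain ⟨σ, hσ, hσ1⟩ := S.exists_ne_one_mem_SG (hTB b hb)
    exact (S.SG_fix_iff hσ hσ1 C).1 (hUC (Finset.le_sup (f := S.SG B) (Finset.mem_erase.2 ⟨hba, hb⟩) hσ))
  choose Cf hCne hCx hCb using hdual
  let ι := (Finset.equivFin T).symm
  refine ⟨⟨T.card, fun i => (ι i).1, fun j => Cf _ (ι j).2, x₀, ?_, hx₀, fun i => hTB _ (ι i).2,
    fun j => hCne _ _, fun j => hCx _ _, fun i j => ?_, fun U hU => htop.trans ?_, hE⟩⟩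
  · by_contra hlt
    have hk := (S.sizes B).2.1
    have hq := S.two_le_q B
    have hE' := S.card_E B
    rw [hE] at hE'
    have hpow : S.q B ^ T.card ≤ S.q B :=
      (Nat.pow_le_pow_right (by omega) (show T.card ≤ 1 by omega)).trans_eq (pow_one _)
    have h2 : 2 * (S.q B - 1) ≤ S.k * (S.q B - 1) := Nat.mul_le_mul_right _ S.two_le_k
    omega
  · rw [hCb _ _ _ (ι i).2]
    exact ⟨fun h h' => h (by rw [h']), fun h h' => h (ι.injective (Subtype.ext h'))⟩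
  · refine Finset.sup_le fun b hb => ?_
    have := hU (ι.symm ⟨b, hb⟩)
    simpa using this

end Sys

end Cfsg.Agent.AxialDesign
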