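import Cfsg.Agent.Lib.AxialDesign.Coord

/-!
# The design is a projective space

With coordinates on the elation group the points correspond to the lines of `F ^ (m + 1)` and the
blocks to its hyperplanes.
-/

set_option autoImplicit false
set_option linter.unusedSectionVars false

open scoped Classical Matrix LinearAlgebra.Projectivization
open MulAction

namespace Cfsg.Agent.AxialDesign

variable {G P β : Type*} [Group G] [MulAction G P] [MulAction G β]
  [Finite P] [Finite β] [Finite G] [FaithfulSMul G P] {S : Sys G P β} {B : β}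
  {fr : S.Frame B} {F : Type} [Field F] [Fintype F] (co : Coord fr F)

attribute [local instance] eComm

theorem smul_mem_of_fix {g : G} {X : β} (hg : g • X = X) (x : P) : g • x ∈ S.pts X ↔ x ∈ S.pts X := by
  have h := S.smul_mem g x X
  rwa [hg] at h

namespace Coord

/-- The elation of a vector. -/
noncomputable def tl (v : Fin fr.m → F) : G := val (co.e v)

theorem tl_mem (v : Fin fr.m → F) : co.tl v ∈ S.E B := val_mem _

theorem tl_add (v w : Fin fr.m → F) : co.tl (v + w) = co.tl v * co.tl w := by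
  rw [tl, map_add, val_add]; rfl

theorem tl_zero : co.tl 0 = 1 := by rw [tl, map_zero, val_zero]

theorem tl_neg (v : Fin fr.m → F) : co.tl (-v) = (co.tl v)⁻¹ := by rw [tl, map_neg, val_neg]; rfl

theorem tl_inj {v w : Fin fr.m → F} (h : co.tl v = co.tl w) : v = w := co.e.injective (val_inj h)

theorem tl_ne_one {v : Fin fr.m → F} (h : v ≠ 0) : co.tl v ≠ 1 := fun e =>
  h (co.tl_inj (e.trans co.tl_zero.symm))

theorem exists_tl {g : G} (hg : g ∈ S.E B) : ∃ v, co.tl v = g := by
  obtain ⟨u, rfl⟩ := exists_val hg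
  exact ⟨co.e.symm u, by rw [tl, AddEquiv.apply_symm_apply]⟩

theorem tl_transvection {i j : Fin fr.m} (h : i ≠ j) (t : F) : ∃ τ ∈ S.SG (fr.C j) (fr.c i), τ • B = B ∧
    ∀ v, τ * co.tl v * τ⁻¹ = co.tl (v + Pi.single i (t * v j)) := by
  obtain ⟨τ, hτ, hA⟩ := co.transvection i j h t
  exact ⟨τ, hτ, hA.1, fun v => by rw [tl, hA.2]; simp [tl]⟩

theorem exists_line (v : Fin fr.m → F) (hv : v ≠ 0) :
    ∃ y ∈ S.pts B, ∀ t : F, co.tl (t • v) ∈ S.SG B y := by
  have hm := fr.two_le
  let o : Fin fr.m := ⟨0, by omega⟩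
  let Reach : (Fin fr.m → F) → Prop := fun v => ∃ g : G, g • B = B ∧
    ∀ t : F, g * co.tl (t • Pi.single o 1) * g⁻¹ = co.tl (t • v)
  have hstep : ∀ v i j, i ≠ j → ∀ s : F, Reach v → Reach (v + Pi.single i (s * v j)) := by
    rintro v i j hij s ⟨g, hgB, hg⟩
    obtain ⟨τ, -, hτB, hτ⟩ := co.tl_transvection hij s
    refine ⟨τ * g, by rw [mul_smul, hgB, hτB], fun t => ?_⟩
    rw [show τ * g * co.tl (t • Pi.single o 1) * (τ * g)⁻¹ =
      τ * (g * co.tl (t • Pi.single o 1) * g⁻¹) * τ⁻¹ by group, hg, hτ]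
    congr 1
    rw [smul_add, ← Pi.single_smul', Pi.smul_apply, smul_eq_mul, smul_eq_mul, mul_left_comm]
  have h1 : ∀ (w : Fin fr.m → F) (s : Finset (Fin fr.m)), o ∉ s →
      Reach (Pi.single o 1 + ∑ i ∈ s, Pi.single i (w i)) := by
    intro w s
    induction s using Finset.induction with
    | empty => exact fun _ => ⟨1, one_smul _ _, fun t => by simp⟩
    | @insert a s ha ih =>
      intro hos
      rw [Finset.mem_insert, not_or] at hos
      have hr := hstep _ a o (Ne.symm hos.1) (w a) (ih hos.2)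
      have ho : (Pi.single o 1 + ∑ i ∈ s, Pi.single i (w i) : Fin fr.m → F) o = 1 := by
        rw [Pi.add_apply, Pi.single_eq_same, Finset.sum_apply,
          Finset.sum_eq_zero fun i hi => Pi.single_eq_of_ne (fun e : o = i => hos.2 (e ▸ hi)) _,
          add_zero]
      rw [ho, mul_one, add_assoc, add_comm (∑ i ∈ s, Pi.single i (w i))] at hr
      rwa [Finset.sum_insert ha]
  have hy : ∀ {g : G}, g • B = B → g • fr.c o ∈ S.pts B := fun hg =>
    (smul_mem_of_fix hg _).2 (fr.c_mem o)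
  have hcomp : ∀ s : F, co.tl (s • Pi.single o 1) ∈ S.SG B (fr.c o) := fun s => by
    rw [← Pi.single_smul', smul_eq_mul, mul_one]
    exact co.component o s
  by_cases hex : ∃ l, l ≠ o ∧ v l ≠ 0
  · obtain ⟨l, hlo, hl⟩ := hex
    have hv' : Pi.single o 1 + ∑ i ∈ Finset.univ.erase o, Pi.single i (v i) =
        v + Pi.single o (1 - v o) := by
      conv_rhs => rw [← Finset.univ_sum_single v, ← Finset.add_sum_erase _ _ (Finset.mem_univ o)]
      rw [add_assoc, add_comm (∑ i ∈ Finset.univ.erase o, Pi.single i (v i)), ← add_assoc,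
        ← Pi.single_add]
      simp
    have hr := h1 v (Finset.univ.erase o) (Finset.notMem_erase o _)
    rw [hv'] at hr
    obtain ⟨g, hgB, hg⟩ := hstep _ o l hlo.symm ((v o - 1) / v l) hr
    have hw : v + Pi.single o (1 - v o) +
        Pi.single o ((v o - 1) / v l * (v + Pi.single o (1 - v o) : Fin fr.m → F) l) = v := by
      rw [Pi.add_apply, Pi.single_eq_of_ne hlo, add_zero, div_mul_cancel₀ _ hl, add_assoc, ← Pi.single_add]
      simp
    rw [hw] at hg
    refine ⟨g • fr.c o, hy hgB, fun t => ?_⟩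
    rw [← hg t]
    have h := S.conj_mem_SG (g := g) (hcomp t)
    rwa [hgB] at h
  · push Not at hex
    refine ⟨fr.c o, fr.c_mem o, fun t => ?_⟩
    have : v = v o • Pi.single o (1 : F) := by
      funext l
      by_cases hl : l = o
      · subst hl; simp
      · simp [Pi.single_eq_of_ne hl, hex l hl]
    rw [this, smul_smul]
    exact hcomp _

/-- The point at infinity of a nonzero vector. -/
noncomputable def cpt (v : Fin fr.m → F) : P :=
  if h : v ≠ 0 then (co.exists_line v h).choose else fr.x₀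

theorem cpt_mem {v : Fin fr.m → F} (hv : v ≠ 0) : co.cpt v ∈ S.pts B := by
  rw [cpt, dif_pos hv]; exact (co.exists_line v hv).choose_spec.1

theorem cpt_line {v : Fin fr.m → F} (hv : v ≠ 0) (t : F) : co.tl (t • v) ∈ S.SG B (co.cpt v) := by
  rw [cpt, dif_pos hv]; exact (co.exists_line v hv).choose_spec.2 t

theorem cpt_eq {v : Fin fr.m → F} {y : P} (hv : v ≠ 0) (h : co.tl v ∈ S.SG B y) : co.cpt v = y := by
  have h1 := co.cpt_line hv 1
  rw [one_smul] at h1
  exact S.centre_unique h1 h (co.tl_ne_one hv)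

theorem cpt_smul {v : Fin fr.m → F} {t : F} (ht : t ≠ 0) (hv : v ≠ 0) : co.cpt (t • v) = co.cpt v :=
  co.cpt_eq (smul_ne_zero ht hv) (co.cpt_line hv t)

theorem cpt_inj {v w : Fin fr.m → F} (hv : v ≠ 0) (hw : w ≠ 0) (h : co.cpt v = co.cpt w) :
    ∃ t : F, w = t • v := by
  let f : F → S.SG B (co.cpt v) := fun t => ⟨co.tl (t • v), co.cpt_line hv t⟩
  have hinj : Function.Injective f := fun s t he =>
    smul_left_injective F hv (co.tl_inj (v := s • v) (w := t • v) (by have h' := congrArg Subtype.val he; exact h'))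
  have hw' : co.tl w ∈ S.SG B (co.cpt v) := by
    rw [h]; simpa using co.cpt_line hw 1
  obtain ⟨t, ht⟩ := ((Nat.bijective_iff_injective_and_card f).2 ⟨hinj, by
    rw [S.card_SG (co.cpt_mem hv), Nat.card_eq_fintype_card, co.card_eq]⟩).2 ⟨co.tl w, hw'⟩
  exact ⟨t, (co.tl_inj (v := t • v) (w := w) (by have h' := congrArg Subtype.val ht; exact h')).symm⟩

theorem cpt_surj {y : P} (hy : y ∈ S.pts B) : ∃ v, v ≠ 0 ∧ co.cpt v = y := by
  obtain ⟨σ, hσ, hσ1⟩ := S.exists_ne_one_mem_SG hy
  obtain ⟨v, rfl⟩ := co.exists_tl hσ.1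
  have hv : v ≠ 0 := fun e => hσ1 (by rw [e, co.tl_zero])
  exact ⟨v, hv, co.cpt_eq hv hσ⟩

/-- The point of a vector. -/
noncomputable def ψ (w : Fin (fr.m + 1) → F) : P :=
  if w (Fin.last fr.m) = 0 then co.cpt (Fin.init w)
  else co.tl ((w (Fin.last fr.m))⁻¹ • Fin.init w) • fr.x₀

theorem init_ne_zero {w : Fin (fr.m + 1) → F} (hw : w ≠ 0) (hl : w (Fin.last fr.m) = 0) :
    Fin.init w ≠ 0 := fun h => hw (by
  funext i
  refine Fin.lastCases ?_ (fun i => ?_) i
  · exact hl
  · exact congrFun h i)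

theorem tl_x₀_not_mem (v : Fin fr.m → F) : co.tl v • fr.x₀ ∉ S.pts B := fun h =>
  fr.x₀_not_mem ((smul_mem_of_fix (S.E_smul_axis (co.tl_mem v)) _).1 h)

theorem init_smul (t : F) (w : Fin (fr.m + 1) → F) : Fin.init (t • w) = t • Fin.init w := rfl

theorem ψ_smul {w : Fin (fr.m + 1) → F} {t : F} (ht : t ≠ 0) (hw : w ≠ 0) : co.ψ (t • w) = co.ψ w := by
  unfold ψ
  rw [Pi.smul_apply, smul_eq_mul, init_smul]
  by_cases hl : w (Fin.last fr.m) = 0
  · rw [if_pos (by rw [hl, mul_zero]), if_pos hl, co.cpt_smul ht (init_ne_zero hw hl)]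
  · rw [if_neg (mul_ne_zero ht hl), if_neg hl, smul_smul, mul_inv_rev, mul_assoc, inv_mul_cancel₀ ht,
      mul_one]

theorem ψ_inj {w w' : Fin (fr.m + 1) → F} (hw : w ≠ 0) (hw' : w' ≠ 0) (h : co.ψ w = co.ψ w') :
    ∃ t : F, t ≠ 0 ∧ w' = t • w := by
  suffices ∃ t : F, w' = t • w by
    obtain ⟨t, ht⟩ := this
    exact ⟨t, fun e => hw' (by rw [ht, e, zero_smul]), ht⟩
  unfold ψ at h
  by_cases hl : w (Fin.last fr.m) = 0 <;> by_cases hl' : w' (Fin.last fr.m) = 0
  · rw [if_pos hl, if_pos hl'] at h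
    obtain ⟨t, ht⟩ := co.cpt_inj (init_ne_zero hw hl) (init_ne_zero hw' hl') h
    refine ⟨t, funext fun i => ?_⟩
    refine Fin.lastCases ?_ (fun i => ?_) i
    · simp [hl, hl']
    · exact congrFun ht i
  · rw [if_pos hl, if_neg hl'] at h
    exact absurd (h ▸ co.cpt_mem (init_ne_zero hw hl)) (co.tl_x₀_not_mem _)
  · rw [if_neg hl, if_pos hl'] at h
    exact absurd (h.symm ▸ co.cpt_mem (init_ne_zero hw' hl')) (co.tl_x₀_not_mem _)
  · rw [if_neg hl, if_neg hl'] at h
    have h1 := eq_of_inv_mul_eq_one (S.E_semireg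
      (mul_mem (inv_mem (co.tl_mem ((w (Fin.last fr.m))⁻¹ • Fin.init w)))
        (co.tl_mem ((w' (Fin.last fr.m))⁻¹ • Fin.init w')))
      fr.x₀_not_mem (by rw [mul_smul, ← h, inv_smul_smul]))
    refine ⟨w' (Fin.last fr.m) * (w (Fin.last fr.m))⁻¹, funext fun i => ?_⟩
    refine Fin.lastCases ?_ (fun i => ?_) i
    · simp [hl]
    · have h2 := congrFun (co.tl_inj h1) i
      simp only [Pi.smul_apply, smul_eq_mul, Fin.init] at h2 ⊢
      rw [mul_assoc, h2, mul_inv_cancel_left₀ hl']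

theorem ψ_surj (y : P) : ∃ w : Fin (fr.m + 1) → F, w ≠ 0 ∧ co.ψ w = y := by
  by_cases hy : y ∈ S.pts B
  · obtain ⟨v, hv, rfl⟩ := co.cpt_surj hy
    refine ⟨Fin.snoc v 0, fun e => hv (funext fun i => ?_), ?_⟩
    · have := congrFun e i.castSucc
      simpa using this
    · simp [ψ]
  · obtain ⟨ε, hε, rfl⟩ := S.E_regular fr.x₀_not_mem hy
    obtain ⟨v, rfl⟩ := co.exists_tl hε
    refine ⟨Fin.snoc v 1, fun e => ?_, by simp [ψ]⟩
    have := congrFun e (Fin.last fr.m)
    simp at this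

/-- Points of the projective space. -/
noncomputable def point : ℙ F (Fin (fr.m + 1) → F) ≃ P := Equiv.ofBijective
  (Projectivization.lift (fun w => co.ψ w.1) (fun w w' t h => by
    have ht : t ≠ 0 := fun e => w.2 (by rw [h, e, zero_smul])
    show co.ψ w.1 = co.ψ w'.1
    rw [h, co.ψ_smul ht w'.2]))
  ⟨fun p p' h => by
    induction p using Projectivization.ind with
    | _ v hv =>
    induction p' using Projectivization.ind with
    | _ v' hv' =>
    rw [Projectivization.lift_mk, Projectivization.lift_mk] at h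
    obtain ⟨t, ht, he⟩ := co.ψ_inj hv' hv h.symm
    exact (Projectivization.mk_eq_mk_iff' F v v' hv hv').2 ⟨t, he.symm⟩,
  fun y => by
    obtain ⟨w, hw, h⟩ := co.ψ_surj y
    exact ⟨Projectivization.mk F w hw, by rw [Projectivization.lift_mk]; exact h⟩⟩

theorem point_mk {w : Fin (fr.m + 1) → F} (hw : w ≠ 0) : co.point (Projectivization.mk F w hw) = co.ψ w :=
  rfl

include co in
theorem card_points : Nat.card (ℙ F (Fin (fr.m + 1) → F)) = Nat.card P := Nat.card_congr co.point

theorem tl_fix_smul {X : β} {t : F} {v : Fin fr.m → F} (ht : t ≠ 0) :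
    co.tl (t • v) • X = X ↔ co.tl v • X = X := by
  by_cases hv : v = 0
  · simp [hv]
  have h1 := co.cpt_line hv 1
  rw [one_smul] at h1
  rw [S.SG_fix_iff (co.cpt_line hv t) (co.tl_ne_one (smul_ne_zero ht hv)),
    S.SG_fix_iff h1 (co.tl_ne_one hv)]

/-- Blocks through the base point are linear. -/
theorem mem_of_x₀ {X : β} (hX : X ≠ B) (hx : fr.x₀ ∈ S.pts X) {w : Fin (fr.m + 1) → F} (hw : w ≠ 0) :
    co.ψ w ∈ S.pts X ↔ co.tl (Fin.init w) • X = X := by
  unfold ψ
  by_cases hl : w (Fin.last fr.m) = 0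
  · have hv := init_ne_zero hw hl
    have h1 := co.cpt_line hv 1
    rw [one_smul] at h1
    rw [if_pos hl, S.SG_fix_iff h1 (co.tl_ne_one hv)]
  · rw [if_neg hl, ← co.tl_fix_smul (X := X) (inv_ne_zero hl)]
    constructor
    · intro h
      by_contra hne
      set ε := co.tl ((w (Fin.last fr.m))⁻¹ • Fin.init w) with hε
      have h' : ε • fr.x₀ ∈ S.pts X ∩ S.pts (ε • X) := ⟨h, (S.smul_mem ε fr.x₀ X).2 hx⟩
      rw [S.inter_eq (fun y hy => S.E_fix (co.tl_mem _) hy) hne] at h'
      exact co.tl_x₀_not_mem _ h'.2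
    · intro h
      rw [← h, S.smul_mem]
      exact hx

theorem tl_ψ (a : Fin fr.m → F) {w : Fin (fr.m + 1) → F} (hw : w ≠ 0) :
    co.tl a • co.ψ w = co.ψ (w + Fin.snoc (w (Fin.last fr.m) • a) 0) := by
  have hlast : (w + Fin.snoc (w (Fin.last fr.m) • a) 0 : Fin (fr.m + 1) → F) (Fin.last fr.m) =
      w (Fin.last fr.m) := by simp
  have hinit : Fin.init (w + Fin.snoc (w (Fin.last fr.m) • a) 0 : Fin (fr.m + 1) → F) =
      Fin.init w + w (Fin.last fr.m) • a := by
    funext i; simp [Fin.init]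
  unfold ψ
  rw [hlast, hinit]
  by_cases hl : w (Fin.last fr.m) = 0
  · rw [if_pos hl, if_pos hl, hl, zero_smul, add_zero,
      S.E_fix (co.tl_mem a) (co.cpt_mem (init_ne_zero hw hl))]
  · rw [if_neg hl, if_neg hl, smul_add, smul_smul (w (Fin.last fr.m))⁻¹ (w (Fin.last fr.m)) a,
      inv_mul_cancel₀ hl, one_smul, add_comm ((w (Fin.last fr.m))⁻¹ • Fin.init w) a, co.tl_add, mul_smul]

theorem mem_C_iff (j : Fin fr.m) {w : Fin (fr.m + 1) → F} (hw : w ≠ 0) :
    co.ψ w ∈ S.pts (fr.C j) ↔ w j.castSucc = 0 := by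
  rw [co.mem_of_x₀ (fr.C_ne j) (fr.x₀_mem j) hw, tl, fix_C_iff]
  have hsum : π fr j (co.e (Fin.init w)) = π fr j (co.e (Pi.single j (Fin.init w j))) := by
    conv_lhs => rw [← Finset.univ_sum_single (Fin.init w), map_sum, map_sum]
    refine Finset.sum_eq_single j (fun i _ hi => ?_) (by simp)
    exact π_ne fr (Ne.symm hi) (⟨_, mem_Ac.2 (co.component i _)⟩ : A fr i)
  have hsingle : π fr j (co.e (Pi.single j (Fin.init w j))) =
      ⟨co.e (Pi.single j (Fin.init w j)), mem_Ac.2 (co.component j _)⟩ :=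
    π_self fr j (⟨_, mem_Ac.2 (co.component j _)⟩ : A fr j)
  rw [hsum, hsingle]
  constructor
  · intro h
    have h' : co.e (Pi.single j (Fin.init w j)) = 0 := congrArg Subtype.val h
    rw [AddEquiv.map_eq_zero_iff, Pi.single_eq_zero_iff] at h'
    exact h'
  · intro h
    refine Subtype.ext ?_
    show co.e (Pi.single j (Fin.init w j)) = 0
    rw [show Fin.init w j = 0 from h, Pi.single_zero, map_zero]

/-- Every block is a hyperplane. -/
theorem exists_vec (X : β) : ∃ b : Fin (fr.m + 1) → F, b ≠ 0 ∧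
    ∀ w, w ≠ 0 → (co.ψ w ∈ S.pts X ↔ b ⬝ᵥ w = 0) := by
  by_cases hX : X = B
  · subst hX
    refine ⟨Pi.single (Fin.last fr.m) 1, by simp, fun w hw => ?_⟩
    rw [single_dotProduct, one_mul]
    unfold ψ
    by_cases hl : w (Fin.last fr.m) = 0
    · simp [hl, co.cpt_mem (init_ne_zero hw hl)]
    · simp [hl, co.tl_x₀_not_mem]
  obtain ⟨y, hy, hyB⟩ : ∃ y ∈ S.pts X, y ∉ S.pts B := by
    by_contra! hall
    exact hX (S.pts_inj (Set.eq_of_subset_of_ncard_le hall (by rw [S.card_pts, S.card_pts]) (Set.toFinite _)))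
  obtain ⟨ε, hε, rfl⟩ := S.E_regular fr.x₀_not_mem hyB
  obtain ⟨a, rfl⟩ := co.exists_tl hε
  set X' := (co.tl a)⁻¹ • X with hX'
  have hX'B : X' ≠ B := S.smul_ne_axis (inv_mem hε) hX
  have hx' : fr.x₀ ∈ S.pts X' := by rw [hX', S.mem_smul_iff, inv_inv]; exact hy
  let U : Submodule F (Fin fr.m → F) :=
    { carrier := {v | co.tl v • X' = X'}
      zero_mem' := by simp [co.tl_zero]
      add_mem' := fun {u v} hu hv => by
        show co.tl (u + v) • X' = X'
        rw [co.tl_add, mul_smul, hv, hu]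
      smul_mem' := fun t v hv => by
        by_cases ht : t = 0
        · simp [ht, co.tl_zero]
        · exact (co.tl_fix_smul ht).2 hv }
  have hUcard : Nat.card U * Fintype.card F = Nat.card (Fin fr.m → F) := by
    have e1 : Nat.card U = Nat.card (S.Ec B X') := by
      let f : U → S.Ec B X' := fun v => ⟨co.tl v, co.tl_mem _, v.2⟩
      refine Nat.card_congr (Equiv.ofBijective f ⟨fun u v he => Subtype.ext (co.tl_inj (v := (u : Fin fr.m → F)) (w := (v : Fin fr.m → F)) (by have h' := congrArg Subtype.val he; exact h')), ?_⟩)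
      rintro ⟨σ, hσ⟩
      obtain ⟨v, rfl⟩ := co.exists_tl hσ.1
      exact ⟨⟨v, hσ.2⟩, rfl⟩
    have e2 : Nat.card (Fin fr.m → F) = Nat.card (S.E B) := Nat.card_congr co.e.toEquiv
    rw [e1, e2, co.card_eq, (S.sizes B).1 X' hX'B.symm, mul_comm]
  have hUtop : U < ⊤ := by
    refine lt_top_iff_ne_top.2 fun h => ?_
    rw [h, Nat.card_congr (Submodule.topEquiv (R := F) (M := Fin fr.m → F)).toEquiv] at hUcard
    have hpos : 0 < Nat.card (Fin fr.m → F) := Nat.card_pos
    have := Fintype.one_lt_card (α := F)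
    nlinarith
  obtain ⟨g, hg0, hUg⟩ := U.exists_le_ker_of_lt_top hUtop
  have hker : U = LinearMap.ker g := by
    refine SetLike.coe_injective (Set.eq_of_subset_of_ncard_le hUg ?_ (Set.toFinite _))
    have h := g.toAddMonoidHom.ker.card_mul_index
    rw [AddSubgroup.index_ker] at h
    have hrange : g.toAddMonoidHom.range = ⊤ :=
      AddMonoidHom.range_eq_top.2 (g.surjective hg0)
    rw [hrange, AddSubgroup.card_top, Nat.card_eq_fintype_card (α := F), ← hUcard] at h
    rw [← Nat.card_coe_set_eq, ← Nat.card_coe_set_eq]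
    exact (Nat.eq_of_mul_eq_mul_right Fintype.card_pos h).le
  refine ⟨Fin.snoc (fun i => g (Pi.single i 1)) (-g a), fun h => hg0 ?_, fun w hw => ?_⟩
  · refine LinearMap.pi_ext' fun i => LinearMap.ext_ring ?_
    have := congrFun h i.castSucc
    simpa using this
  have hdot : (Fin.snoc (fun i => g (Pi.single i 1)) (-g a) : Fin (fr.m + 1) → F) ⬝ᵥ w =
      g (Fin.init w - w (Fin.last fr.m) • a) := by
    have hgi : g (Fin.init w) = ∑ i, g (Pi.single i 1) * w i.castSucc := by
      conv_lhs => rw [← Finset.univ_sum_single (Fin.init w), map_sum]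
      refine Finset.sum_congr rfl fun i _ => ?_
      rw [show Pi.single i (Fin.init w i) = Fin.init w i • Pi.single (M := fun _ => F) i 1 by
        rw [← Pi.single_smul', smul_eq_mul, mul_one], map_smul, smul_eq_mul, mul_comm]
      rfl
    rw [map_sub, map_smul, smul_eq_mul, hgi, dotProduct, Fin.sum_univ_castSucc]
    simp only [Fin.snoc_castSucc, Fin.snoc_last]
    ring
  rw [hdot, ← LinearMap.mem_ker, ← hker]
  show _ ↔ co.tl (Fin.init w - w (Fin.last fr.m) • a) • X' = X'
  set w' : Fin (fr.m + 1) → F := w + Fin.snoc (w (Fin.last fr.m) • -a) 0 with hw'def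
  have hw' : w' ≠ 0 := by
    intro e
    have hl : w (Fin.last fr.m) = 0 := by
      have := congrFun e (Fin.last fr.m)
      simpa [w'] using this
    apply hw
    funext i
    refine Fin.lastCases hl (fun i => ?_) i
    have := congrFun e i.castSucc
    simpa [w', hl] using this
  have hinit : Fin.init w' = Fin.init w - w (Fin.last fr.m) • a := by
    funext i; simp [w', Fin.init, sub_eq_add_neg]
  rw [← hinit, ← co.mem_of_x₀ hX'B hx' hw', hw'def, ← co.tl_ψ (-a) hw, co.tl_neg, hX', S.smul_mem]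

/-- The blocks are all the hyperplanes. -/
theorem exists_blk {b : Fin (fr.m + 1) → F} (hb : b ≠ 0) :
    ∃ X : β, ∀ w, w ≠ 0 → (co.ψ w ∈ S.pts X ↔ b ⬝ᵥ w = 0) := by
  choose f hf0 hf using co.exists_vec
  let F' : β → ℙ F (Fin (fr.m + 1) → F) := fun X => Projectivization.mk F (f X) (hf0 X)
  have hinj : Function.Injective F' := by
    intro X Y h
    obtain ⟨t, ht⟩ := (Projectivization.mk_eq_mk_iff' F _ _ (hf0 X) (hf0 Y)).1 h
    have ht0 : t ≠ 0 := fun e => hf0 X (by rw [← ht, e, zero_smul])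
    refine S.pts_inj (Set.ext fun y => ?_)
    obtain ⟨w, hw, rfl⟩ := co.ψ_surj y
    rw [hf X w hw, hf Y w hw, ← ht, smul_dotProduct, smul_eq_mul, mul_eq_zero]
    simp [ht0]
  have : Finite (ℙ F (Fin (fr.m + 1) → F)) := Finite.of_equiv P co.point.symm
  obtain ⟨X, hX⟩ := ((Nat.bijective_iff_injective_and_card F').2
    ⟨hinj, by rw [S.card_eq, co.card_points]⟩).2 (Projectivization.mk F b hb)
  obtain ⟨t, ht⟩ := (Projectivization.mk_eq_mk_iff' F _ _ (hf0 X) hb).1 hX
  have ht0 : t ≠ 0 := fun e => hf0 X (by rw [← ht, e, zero_smul])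
  refine ⟨X, fun w hw => ?_⟩
  rw [hf X w hw, ← ht, smul_dotProduct, smul_eq_mul, mul_eq_zero]
  simp [ht0]

/-- A point on every block through two points lies on their line. -/
theorem mem_span {z a b : Fin (fr.m + 1) → F} (hz : z ≠ 0) (ha : a ≠ 0) (hb : b ≠ 0)
    (h : ∀ X, co.ψ a ∈ S.pts X → co.ψ b ∈ S.pts X → co.ψ z ∈ S.pts X) :
    ∃ r s : F, z = r • a + s • b := by
  suffices z ∈ Submodule.span F {a, b} by
    obtain ⟨r, s, e⟩ := Submodule.mem_span_pair.1 this
    exact ⟨r, s, e.symm⟩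
  by_contra hmem
  obtain ⟨g, hgz, hg⟩ := Submodule.exists_dual_map_eq_bot_of_notMem hmem inferInstance
  let c : Fin (fr.m + 1) → F := fun i => g (Pi.single i 1)
  have hc : ∀ u, c ⬝ᵥ u = g u := fun u => by
    conv_rhs => rw [← Finset.univ_sum_single u, map_sum]
    refine Finset.sum_congr rfl fun i _ => ?_
    rw [show Pi.single i (u i) = u i • Pi.single (M := fun _ => F) i 1 by
      rw [← Pi.single_smul', smul_eq_mul, mul_one], map_smul, smul_eq_mul, mul_comm]
  have hc0 : c ≠ 0 := fun e => hgz (by rw [← hc, e, zero_dotProduct])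
  have hgu : ∀ u ∈ Submodule.span F {a, b}, g u = 0 := fun u hu => by
    have := Submodule.mem_map_of_mem (f := g) hu
    rwa [hg, Submodule.mem_bot] at this
  obtain ⟨X, hX⟩ := co.exists_blk hc0
  have := h X ((hX a ha).2 (by rw [hc]; exact hgu a (Submodule.subset_span (by simp))))
    ((hX b hb).2 (by rw [hc]; exact hgu b (Submodule.subset_span (by simp))))
  rw [hX z hz, hc] at this
  exact hgz this

end Coord

end Cfsg.Agent.AxialDesign
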