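import Cfsg.Agent.Lib.AxialDesign.Flats

/-!
# Shears of the elation group

For a frame of `E B` the elations with axis `C j` and centre `c i` act on `E B`, written additively, as
shears `v ↦ v + a (π j v)`. The possible `a` form groups closed under inverses, the products `aba` and
composition.
-/

set_option autoImplicit false
set_option linter.unusedSectionVars false

open scoped Classical
open MulAction

namespace Cfsg.Agent.AxialDesign

variable {G P β : Type*} [Group G] [MulAction G P] [MulAction G β]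
  [Finite P] [Finite β] [Finite G] [FaithfulSMul G P] (S : Sys G P β)

/-- The elation group of an axis is commutative. -/
@[instance_reducible]
noncomputable def eComm (B : β) : CommGroup ↥(S.E B) :=
  { (inferInstance : Group ↥(S.E B)) with mul_comm := fun a b => Subtype.ext (S.E_comm a.2 b.2) }

attribute [local instance] eComm

/-- The elation group, written additively. -/
abbrev EAdd (B : β) : Type _ := Additive ↥(S.E B)

variable {S} {B : β}

/-- The element of `G` underlying an element of `EAdd`. -/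
def val (v : EAdd S B) : G := (Additive.toMul v).1

theorem val_mem (v : EAdd S B) : val v ∈ S.E B := (Additive.toMul v).2

theorem val_add (v w : EAdd S B) : val (v + w) = val v * val w := rfl

theorem val_zero : val (0 : EAdd S B) = 1 := rfl

theorem val_neg (v : EAdd S B) : val (-v) = (val v)⁻¹ := rfl

theorem val_inj {v w : EAdd S B} (h : val v = val w) : v = w :=
  Additive.toMul.injective (Subtype.ext h)

theorem val_ne_one {v : EAdd S B} (h : v ≠ 0) : val v ≠ 1 := fun e => h (val_inj e)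

theorem exists_val {g : G} (hg : g ∈ S.E B) : ∃ v : EAdd S B, val v = g :=
  ⟨Additive.ofMul ⟨g, hg⟩, rfl⟩

/-- `g` acts on the elation group as `f`. -/
def Acts (g : G) (f : EAdd S B → EAdd S B) : Prop := g • B = B ∧ ∀ v, g * val v * g⁻¹ = val (f v)

theorem Acts.comp {g g' : G} {f f' : EAdd S B → EAdd S B} (h : Acts g f) (h' : Acts g' f') :
    Acts (g * g') (f ∘ f') :=
  ⟨by rw [mul_smul, h'.1, h.1], fun v => by
    rw [show g * g' * val v * (g * g')⁻¹ = g * (g' * val v * g'⁻¹) * g⁻¹ by group, h'.2, h.2]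
    rfl⟩

theorem Acts.one : Acts (1 : G) (id : EAdd S B → EAdd S B) :=
  ⟨one_smul _ _, fun v => by simp⟩

theorem Acts.congr {g : G} {f f' : EAdd S B → EAdd S B} (h : Acts g f) (he : ∀ v, f v = f' v) :
    Acts g f' :=
  ⟨h.1, fun v => by rw [← he, h.2]⟩

theorem Acts.map_add {g : G} {f : EAdd S B → EAdd S B} (h : Acts g f) (v w : EAdd S B) :
    f (v + w) = f v + f w := val_inj (by
  rw [← h.2, val_add, val_add, ← h.2, ← h.2]; group)

variable (S) in
/-- The elations with axis `B` and centre `c`, additively. -/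
noncomputable def Ac (B : β) (c : P) : AddSubgroup (EAdd S B) :=
  Subgroup.toAddSubgroup ((S.SG B c).subgroupOf (S.E B))

theorem mem_Ac {c : P} {v : EAdd S B} : v ∈ Ac S B c ↔ val v ∈ S.SG B c := Iff.rfl

theorem card_Ac {c : P} (hc : c ∈ S.pts B) : Nat.card (Ac S B c) = S.q B := by
  rw [← S.card_SG hc]
  exact Nat.card_congr ⟨fun v => ⟨val v.1, mem_Ac.1 v.2⟩,
    fun σ => ⟨Additive.ofMul ⟨σ.1, σ.2.1⟩, mem_Ac.2 σ.2⟩, fun _ => rfl, fun _ => rfl⟩

theorem q_eq (B' : β) : S.q B' = S.q B := by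
  have h := S.card_E_eq B B'
  rw [S.card_E, S.card_E] at h
  have h1 := S.two_le_q B
  have h2 := S.two_le_q B'
  have := Nat.eq_of_mul_eq_mul_left (by have := S.two_le_k; omega) (Nat.add_left_cancel h)
  omega

variable (fr : S.Frame B)

/-- The `i`-th axis of a frame. -/
noncomputable abbrev A (i : Fin fr.m) : AddSubgroup (EAdd S B) := Ac S B (fr.c i)

theorem card_A (i : Fin fr.m) : Nat.card (A fr i) = S.q B := card_Ac (fr.c_mem i)

/-- Adding up components. -/
noncomputable def sumHom : (∀ i, A fr i) →+ EAdd S B where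
  toFun w := ∑ i, ((w i : A fr i) : EAdd S B)
  map_zero' := by simp
  map_add' v w := by simp [Finset.sum_add_distrib]

theorem sumHom_apply (w : ∀ i, A fr i) : sumHom fr w = ∑ i, ((w i : A fr i) : EAdd S B) := rfl

theorem sumHom_bijective : Function.Bijective (sumHom fr) := by
  refine (Nat.bijective_iff_surjective_and_card _).2 ⟨?_, ?_⟩
  · let U : Subgroup G :=
      { carrier := {g | ∃ w, g = val (sumHom fr w)}
        one_mem' := ⟨0, by rw [map_zero, val_zero]⟩
        mul_mem' := by rintro _ _ ⟨v, rfl⟩ ⟨w, rfl⟩; exact ⟨v + w, by rw [map_add, val_add]⟩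
        inv_mem' := by rintro _ ⟨v, rfl⟩; exact ⟨-v, by rw [map_neg, val_neg]⟩ }
    have hU : S.E B ≤ U := fr.span U fun i σ hσ => by
      refine ⟨Pi.single i ⟨Additive.ofMul ⟨σ, hσ.1⟩, mem_Ac.2 hσ⟩, ?_⟩
      rw [sumHom_apply, Finset.sum_eq_single i (fun b _ hb => by simp [Pi.single_eq_of_ne hb]) (by simp),
        Pi.single_eq_same]
      rfl
    intro v
    obtain ⟨w, hw⟩ := hU (val_mem v)
    exact ⟨w, (val_inj hw).symm⟩
  · rw [Nat.card_pi, Finset.prod_congr rfl fun i _ => card_A fr i, Finset.prod_const, Finset.card_univ,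
      Fintype.card_fin, ← fr.card_E]
    rfl

/-- The `i`-th component. -/
noncomputable def π (i : Fin fr.m) : EAdd S B →+ A fr i :=
  (Pi.evalAddMonoidHom (fun i => A fr i) i).comp
    (AddEquiv.ofBijective (sumHom fr) (sumHom_bijective fr)).symm.toAddMonoidHom

theorem π_sumHom (i : Fin fr.m) (w : ∀ i, A fr i) : π fr i (sumHom fr w) = w i :=
  congrFun ((AddEquiv.ofBijective (sumHom fr) (sumHom_bijective fr)).symm_apply_apply w) i

theorem sum_π (v : EAdd S B) : ∑ i, ((π fr i v : A fr i) : EAdd S B) = v :=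
  (AddEquiv.ofBijective (sumHom fr) (sumHom_bijective fr)).apply_symm_apply v

theorem ext_π {v w : EAdd S B} (h : ∀ i, π fr i v = π fr i w) : v = w := by
  rw [← sum_π fr v, ← sum_π fr w]
  exact Finset.sum_congr rfl fun i _ => by rw [h i]

theorem sumHom_single (i : Fin fr.m) (x : A fr i) : sumHom fr (Pi.single i x) = (x : EAdd S B) := by
  rw [sumHom_apply, Finset.sum_eq_single i (fun b _ hb => by simp [Pi.single_eq_of_ne hb]) (by simp),
    Pi.single_eq_same]

theorem π_self (i : Fin fr.m) (x : A fr i) : π fr i (x : EAdd S B) = x := by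
  rw [← sumHom_single, π_sumHom, Pi.single_eq_same]

theorem π_ne {i j : Fin fr.m} (h : j ≠ i) (x : A fr i) : π fr j (x : EAdd S B) = 0 := by
  rw [← sumHom_single, π_sumHom, Pi.single_eq_of_ne h]

theorem fix_C_iff (j : Fin fr.m) (v : EAdd S B) : val v • fr.C j = fr.C j ↔ π fr j v = 0 := by
  let W : AddSubgroup (EAdd S B) :=
    { carrier := {v | val v • fr.C j = fr.C j}
      zero_mem' := by simp [val_zero]
      add_mem' := fun {a b} ha hb => by
        show val (a + b) • _ = _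
        rw [val_add, mul_smul, hb, ha]
      neg_mem' := fun {a} ha => by
        show val (-a) • _ = _
        rw [val_neg, inv_smul_eq_iff, ha] }
  have hW : ∀ i, i ≠ j → ∀ x : A fr i, (x : EAdd S B) ∈ W := fun i hi x =>
    (mem_Ac.1 x.2).2 _ ((fr.c_mem_C i j).2 hi)
  have hv : v ∈ W ↔ ((π fr j v : A fr j) : EAdd S B) ∈ W := by
    conv_lhs => rw [← sum_π fr v, ← Finset.add_sum_erase _ _ (Finset.mem_univ j)]
    exact AddSubgroup.add_mem_cancel_right W
      (AddSubgroup.sum_mem W fun i hi => hW i (Finset.ne_of_mem_erase hi) _)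
  constructor
  · intro h
    by_contra hne
    have h' : val ((π fr j v : A fr j) : EAdd S B) • fr.C j = fr.C j := hv.1 h
    exact (fr.c_mem_C j j).1 ((S.SG_fix_iff (mem_Ac.1 (π fr j v).2)
      (val_ne_one (fun e => hne (Subtype.ext e))) _).1 h') rfl
  · intro h
    have : ((π fr j v : A fr j) : EAdd S B) ∈ W := by rw [h]; exact zero_mem W
    exact hv.2 this

/-- Homomorphisms between components. -/
abbrev Hom' (i j : Fin fr.m) : Type _ := A fr j →+ A fr i

/-- The shear of `a`. -/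
noncomputable def T {i j : Fin fr.m} (a : Hom' fr i j) (v : EAdd S B) : EAdd S B :=
  v + (a (π fr j v) : A fr i)

theorem π_T_self {i j : Fin fr.m} (a : Hom' fr i j) (v : EAdd S B) :
    π fr i (T fr a v) = π fr i v + a (π fr j v) := by
  rw [T, map_add, π_self]

theorem π_T_ne {i j l : Fin fr.m} (h : l ≠ i) (a : Hom' fr i j) (v : EAdd S B) :
    π fr l (T fr a v) = π fr l v := by
  rw [T, map_add, π_ne fr h, add_zero]

theorem T_zero {i j : Fin fr.m} (v : EAdd S B) : T fr (0 : Hom' fr i j) v = v := by simp [T]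

/-- The maps `a` realised by elations with axis `C j` and centre `c i`. -/
def Zset (i j : Fin fr.m) : Set (Hom' fr i j) :=
  {a | ∃ τ ∈ S.SG (fr.C j) (fr.c i), Acts τ (T fr a)}

variable {i j : Fin fr.m}

theorem SG_C_smul (hij : i ≠ j) {τ : G} (hτ : τ ∈ S.SG (fr.C j) (fr.c i)) : τ • B = B :=
  hτ.2 B (fr.c_mem i)

theorem mem_Ec_C (hij : i ≠ j) {τ : G} (hτ : τ ∈ S.SG (fr.C j) (fr.c i)) : τ ∈ S.Ec (fr.C j) B :=
  ⟨hτ.1, SG_C_smul fr hij hτ⟩

theorem exists_shear (hij : i ≠ j) {τ : G} (hτ : τ ∈ S.SG (fr.C j) (fr.c i)) :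
    ∃ a, a ∈ Zset fr i j ∧ Acts τ (T fr a) := by
  have hB := SG_C_smul fr hij hτ
  have hcj : ∀ v, ∃ w : EAdd S B, τ * val v * τ⁻¹ = val w := fun v => by
    obtain ⟨w, hw⟩ := exists_val (S.conj_mem_E_self hB (val_mem v))
    exact ⟨w, hw.symm⟩
  choose f hf using hcj
  have hA : Acts τ f := ⟨hB, hf⟩
  have hd : ∀ v, f v - v ∈ A fr i := fun v => by
    rw [mem_Ac, sub_eq_add_neg, val_add, val_neg, ← hf]
    refine S.mem_SG.2 ⟨(S.E B).mul_mem (S.conj_mem_E_self hB (val_mem v)) ((S.E B).inv_mem (val_mem v)),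
      fun X hX => ?_⟩
    have h1 : fr.c i ∈ S.pts ((val v)⁻¹ • X) :=
      (S.mem_smul_of_fix (S.E_fix ((S.E B).inv_mem (val_mem v)) (fr.c_mem i))).2 hX
    rw [mul_smul, mul_smul, inv_smul_eq_iff.2 (hτ.2 _ h1).symm, mul_smul, smul_inv_smul, hτ.2 X hX]
  have h0 : ∀ v, π fr j v = 0 → f v = v := fun v hv => val_inj (by
    rw [← hf, ← S.commute_Ec (fr.C_ne j).symm (S.mem_Ec.2 ⟨val_mem v, (fix_C_iff fr j v).2 hv⟩)
      (mem_Ec_C fr hij hτ), mul_inv_cancel_right])
  let a : Hom' fr i j := AddMonoidHom.mk' (fun x => ⟨f x - x, hd x⟩) fun x y => Subtype.ext (by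
    show f ((x : EAdd S B) + y) - ((x : EAdd S B) + y) = (f x - x) + (f y - y)
    rw [hA.map_add]; abel)
  have hT : Acts τ (T fr a) := hA.congr fun v => by
    have h1 : π fr j (v - ((π fr j v : A fr j) : EAdd S B)) = 0 := by
      rw [map_sub, π_self, sub_self]
    have h2 := hA.map_add (v - ((π fr j v : A fr j) : EAdd S B)) ((π fr j v : A fr j) : EAdd S B)
    rw [sub_add_cancel, h0 _ h1] at h2
    rw [h2, T]
    show _ = v + (f _ - _)
    abel
  exact ⟨a, ⟨τ, hτ, hT⟩, hT⟩

theorem shear_inj {τ τ' : G} (hτ : τ ∈ S.E (fr.C j)) (hτ' : τ' ∈ S.E (fr.C j)) {x : EAdd S B}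
    (hx : π fr j x ≠ 0) (h : τ * val x * τ⁻¹ = τ' * val x * τ'⁻¹) : τ = τ' := by
  refine S.zc_inj (fr.C_ne j).symm (val_mem x) (fun e => hx ((fix_C_iff fr j x).1 e)) hτ hτ' ?_
  calc S.zc (val x) τ = val x * (τ * val x * τ⁻¹)⁻¹ := by simp only [Sys.zc]; group
    _ = val x * (τ' * val x * τ'⁻¹)⁻¹ := by rw [h]
    _ = S.zc (val x) τ' := by simp only [Sys.zc]; group

theorem Zset_injective {a : Hom' fr i j} (ha : a ∈ Zset fr i j) {x : A fr j} (hx : x ≠ 0)
    (hax : a x = 0) : a = 0 := by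
  obtain ⟨τ, hτ, hA⟩ := ha
  have h1 : τ = 1 := shear_inj fr hτ.1 (one_mem _) (x := (x : EAdd S B)) (by rwa [π_self]) (by
    rw [hA.2, T, π_self, hax, ZeroMemClass.coe_zero, add_zero]; group)
  refine AddMonoidHom.ext fun y => ?_
  have h := hA.2 (y : EAdd S B)
  rw [h1, one_mul, inv_one, mul_one, T, π_self] at h
  have h' := val_inj h
  rw [left_eq_add] at h'
  exact Subtype.ext h'

theorem Zset_eval (hij : i ≠ j) {x : A fr j} (hx : x ≠ 0) (y : A fr i) :
    ∃ a ∈ Zset fr i j, a x = y := by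
  choose g hgZ hgA using fun τ : S.SG (fr.C j) (fr.c i) => exists_shear fr hij τ.2
  let F : S.SG (fr.C j) (fr.c i) → A fr i := fun τ => g τ x
  have hinj : Function.Injective F := fun τ τ' he => Subtype.ext (shear_inj fr τ.2.1 τ'.2.1
    (x := (x : EAdd S B)) (by rwa [π_self]) (by
      have he' : g τ x = g τ' x := he
      rw [(hgA τ).2, (hgA τ').2, T, T, π_self, he']))
  obtain ⟨τ, hτ⟩ := ((Nat.bijective_iff_injective_and_card F).2 ⟨hinj, by
    rw [card_A, S.card_SG ((fr.c_mem_C i j).2 hij), q_eq]⟩).2 y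
  exact ⟨g τ, hgZ τ, hτ⟩

theorem zero_mem_Zset : (0 : Hom' fr i j) ∈ Zset fr i j :=
  ⟨1, one_mem _, Acts.one.congr fun v => (T_zero fr v).symm⟩

theorem add_mem_Zset (hij : i ≠ j) {a b : Hom' fr i j} (ha : a ∈ Zset fr i j) (hb : b ∈ Zset fr i j) :
    a + b ∈ Zset fr i j := by
  obtain ⟨τ, hτ, hA⟩ := ha
  obtain ⟨τ', hτ', hA'⟩ := hb
  refine ⟨τ * τ', mul_mem hτ hτ', (hA.comp hA').congr fun v => ext_π fr fun l => ?_⟩
  simp only [Function.comp_apply]
  by_cases hl : l = i
  · subst hl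
    rw [π_T_self, π_T_self, π_T_ne fr hij.symm, π_T_self, AddMonoidHom.add_apply]
    abel
  · rw [π_T_ne fr hl, π_T_ne fr hl, π_T_ne fr hl]

theorem neg_mem_Zset (hij : i ≠ j) {a : Hom' fr i j} (ha : a ∈ Zset fr i j) : -a ∈ Zset fr i j := by
  obtain ⟨τ, hτ, hA⟩ := ha
  obtain ⟨b, hbZ, hbA⟩ := exists_shear fr hij ((S.SG _ _).inv_mem hτ)
  have hab : -a = b := by
    refine AddMonoidHom.ext fun x => ?_
    have h := (hbA.comp hA).2 (x : EAdd S B)
    rw [inv_mul_cancel, one_mul, inv_one, mul_one] at h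
    have h' := congrArg (π fr i) (val_inj h)
    simp only [Function.comp_apply] at h'
    rw [π_T_self, π_T_self, π_T_ne fr hij.symm, π_ne fr hij, π_self, zero_add] at h'
    rw [AddMonoidHom.neg_apply]
    exact neg_eq_of_add_eq_zero_right h'.symm
  rw [hab]
  exact hbZ

/-- The realised maps as a subgroup. -/
noncomputable def Z (hij : i ≠ j) : AddSubgroup (Hom' fr i j) where
  carrier := Zset fr i j
  zero_mem' := zero_mem_Zset fr
  add_mem' := add_mem_Zset fr hij
  neg_mem' := neg_mem_Zset fr hij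

/-- A shear with injective `a` realised by some element is realised by an elation. -/
theorem mem_Zset_of_acts (hij : i ≠ j) {a : Hom' fr i j}
    (ha : ∀ x, a x = 0 → x = 0) {h : G} (hA : Acts h (T fr a)) : a ∈ Zset fr i j := by
  obtain ⟨τ, hτ, hτA⟩ := S.realise hA.1 (fr.C_ne j)
    (fun σ hσ => by
      obtain ⟨v, rfl⟩ := exists_val hσ.1
      rw [hA.2, T, (fix_C_iff fr j v).1 hσ.2, map_zero, ZeroMemClass.coe_zero, add_zero])
    (fun ε hε => by
      obtain ⟨v, rfl⟩ := exists_val hε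
      rw [hA.2, ← val_neg, ← val_add, T]
      refine ⟨val_mem _, (fix_C_iff fr j _).2 ?_⟩
      rw [map_add, map_add, map_neg, π_ne fr hij.symm, add_zero, add_neg_cancel])
    (fun ε hε he => by
      obtain ⟨v, rfl⟩ := exists_val hε
      rw [hA.2, T] at he
      have h' := val_inj he
      rw [add_eq_left] at h'
      exact ⟨val_mem v, (fix_C_iff fr j v).2 (ha _ (Subtype.ext h'))⟩)
  have hτA' : Acts τ (T fr a) := ⟨hτ.2, fun v => by rw [hτA _ (val_mem v), hA.2]⟩
  obtain ⟨σ, hσ, hσ1⟩ := S.exists_ne_one_mem_SG (fr.c_mem j)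
  obtain ⟨w, rfl⟩ := exists_val hσ.1
  have hw : w ∈ A fr j := mem_Ac.2 hσ
  set x : A fr j := ⟨w, hw⟩ with hxdef
  have hx : x ≠ 0 := fun e => hσ1 (by
    rw [show w = 0 from congrArg Subtype.val e, val_zero])
  have hwC : val w • fr.C j ≠ fr.C j := fun e =>
    (fr.c_mem_C j j).1 ((S.SG_fix_iff hσ hσ1 _).1 e) rfl
  have hz : S.zc (val w) τ ∈ S.SG B (fr.c i) := by
    have e : S.zc (val w) τ = val (-((a x : A fr i) : EAdd S B)) := by
      calc S.zc (val w) τ = val w * (τ * val w * τ⁻¹)⁻¹ := by simp only [Sys.zc]; group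
        _ = _ := by
          rw [hτA'.2, ← val_neg, ← val_add, T, show π fr j w = x from π_self fr j x]
          congr 1
          abel
    rw [e]
    exact mem_Ac.1 (neg_mem (a x).2)
  by_cases hτ1 : τ = 1
  · exfalso
    apply hx
    apply ha
    have h := hτA'.2 w
    rw [hτ1, one_mul, inv_one, mul_one, T, show π fr j w = x from π_self fr j x] at h
    have h' := val_inj h
    rw [left_eq_add] at h'
    exact Subtype.ext h'
  obtain ⟨-, hFb⟩ := S.Fb_zc (fr.C_ne j).symm (val_mem w) hwC hτ hτ1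
  refine ⟨τ, ⟨hτ.1, fun X hX => ?_⟩, hτA'⟩
  have : X ∈ S.Fb (S.zc (val w) τ) := hz.2 X hX
  rw [hFb] at this
  exact this

theorem Zset_inverse (hij : i ≠ j) {a : Hom' fr i j} {b : Hom' fr j i} (ha : a ∈ Zset fr i j)
    (hb : b ∈ Zset fr j i) {x : A fr j} (hx : x ≠ 0) (h : b (a x) = x) :
    (∀ v, b (a v) = v) ∧ ∀ w, a (b w) = w := by
  obtain ⟨τ, hτ, hA⟩ := ha
  obtain ⟨τ', hτ', hA'⟩ := hb
  have key1 : ∀ v : A fr j, val ((v : EAdd S B) + ((a v : A fr i) : EAdd S B)) ∈ S.SG B (τ • fr.c j) := fun v => by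
    have h := S.conj_mem_SG (g := τ) (mem_Ac.1 v.2)
    rwa [hA.1, hA.2, T, π_self] at h
  have key2 : ∀ w : A fr i, val ((w : EAdd S B) + ((b w : A fr j) : EAdd S B)) ∈ S.SG B (τ' • fr.c i) := fun w => by
    have h := S.conj_mem_SG (g := τ') (mem_Ac.1 w.2)
    rwa [hA'.1, hA'.2, T, π_self] at h
  have hy : τ • fr.c j = τ' • fr.c i := by
    refine S.centre_unique (key1 x) ?_ (val_ne_one fun e => hx ?_)
    · have h2 := key2 (a x)
      rwa [h, add_comm] at h2
    · have := congrArg (π fr j) e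
      rwa [map_add, π_self, π_ne fr hij.symm, map_zero, add_zero] at this
  have hba : ∀ v, b (a v) = v := by
    intro v
    have hv := key1 v
    rw [hy] at hv
    have h' := S.conj_mem_SG (g := τ'⁻¹) hv
    rw [inv_inv, inv_smul_eq_iff.2 hA'.1.symm, inv_smul_smul] at h'
    obtain ⟨w', hw'⟩ := exists_val h'.1
    rw [← hw'] at h'
    set w : A fr i := ⟨w', mem_Ac.2 h'⟩ with hwdef
    have e := hA'.2 w'
    rw [hw', show τ' * (τ'⁻¹ * val ((v : EAdd S B) + ((a v : A fr i) : EAdd S B)) * τ') * τ'⁻¹ =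
      val ((v : EAdd S B) + ((a v : A fr i) : EAdd S B)) by group, T, show π fr i w' = w from π_self fr i w] at e
    have e' := val_inj e
    have e1 := congrArg (π fr i) e'
    have e2 := congrArg (π fr j) e'
    rw [map_add, map_add, π_ne fr hij, π_self, zero_add, show π fr i w' = w from π_self fr i w,
      π_ne fr hij, add_zero] at e1
    rw [map_add, map_add, π_self, π_ne fr hij.symm, add_zero, π_self,
      show π fr j w' = 0 from π_ne fr hij.symm w, zero_add] at e2
    rw [e1, ← e2]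
  refine ⟨hba, fun w => ?_⟩
  have hbij : Function.Bijective a := (Nat.bijective_iff_injective_and_card _).2
    ⟨Function.LeftInverse.injective hba, by rw [card_A, card_A]⟩
  obtain ⟨v, rfl⟩ := hbij.2 w
  rw [hba]

theorem exists_inverse (hij : i ≠ j) {a : Hom' fr i j} (ha : a ∈ Zset fr i j) (ha0 : a ≠ 0) :
    ∃ b ∈ Zset fr j i, (∀ v, b (a v) = v) ∧ ∀ w, a (b w) = w := by
  obtain ⟨x, hx⟩ : ∃ x, a x ≠ 0 := by
    by_contra! h
    exact ha0 (AddMonoidHom.ext h)
  have hx0 : x ≠ 0 := fun e => hx (by rw [e, map_zero])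
  obtain ⟨b, hb, hbx⟩ := Zset_eval fr hij.symm hx x
  exact ⟨b, hb, Zset_inverse fr hij ha hb hx0 hbx⟩

theorem aba_mem (hij : i ≠ j) {a : Hom' fr i j} {b : Hom' fr j i} (ha : a ∈ Zset fr i j)
    (hb : b ∈ Zset fr j i) : (a.comp b).comp a ∈ Zset fr i j := by
  by_cases ha0 : a = 0
  · subst ha0
    simp only [AddMonoidHom.comp_zero]
    exact zero_mem_Zset fr
  by_cases hb0 : b = 0
  · subst hb0
    simp only [AddMonoidHom.comp_zero, AddMonoidHom.zero_comp]
    exact zero_mem_Zset fr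
  obtain ⟨a', ha', hl, hr⟩ := exists_inverse fr hij ha ha0
  obtain ⟨b', -, hbl, -⟩ := exists_inverse fr hij.symm hb hb0
  obtain ⟨τ4, -, hA4⟩ := neg_mem_Zset fr hij ha
  obtain ⟨τ1, -, hA1⟩ := ha
  obtain ⟨τ2, -, hA2⟩ := neg_mem_Zset fr hij.symm ha'
  obtain ⟨τ3, -, hA3⟩ := hb
  obtain ⟨τ5, -, hA5⟩ := ha'
  have h := ((((((hA1.comp hA2).comp hA1).comp hA3).comp hA4).comp hA5).comp hA4)
  have hneg : -((a.comp b).comp a) ∈ Zset fr i j := by
    refine mem_Zset_of_acts fr hij (fun x hx => ?_) (h.congr fun v => ext_π fr fun l => ?_)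
    · simp only [AddMonoidHom.neg_apply, neg_eq_zero, AddMonoidHom.comp_apply] at hx
      have h1 := congrArg a' hx
      rw [hl, map_zero] at h1
      have h2 := congrArg b' h1
      rw [hbl, map_zero] at h2
      have h3 := congrArg a' h2
      rwa [hl, map_zero] at h3
    · simp only [Function.comp_apply]
      by_cases hli : l = i
      · subst hli
        simp only [π_T_self, π_T_ne fr hij, π_T_ne fr hij.symm, map_add, map_neg,
          AddMonoidHom.neg_apply, AddMonoidHom.comp_apply, hl, hr, neg_neg]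
        abel
      by_cases hlj : l = j
      · subst hlj
        simp only [π_T_self, π_T_ne fr hij, π_T_ne fr hij.symm, map_add, map_neg,
          AddMonoidHom.neg_apply, AddMonoidHom.comp_apply, hl, hr, neg_neg]
        abel
      · simp only [π_T_ne fr hli, π_T_ne fr hlj]
  simpa using neg_mem_Zset fr hij hneg

theorem comp_mem {l : Fin fr.m} (hij : i ≠ j) (hjl : j ≠ l) (hil : i ≠ l) {a : Hom' fr i j}
    {b : Hom' fr j l} (ha : a ∈ Zset fr i j) (hb : b ∈ Zset fr j l) : a.comp b ∈ Zset fr i l := by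
  by_cases ha0 : a = 0
  · subst ha0
    simp only [AddMonoidHom.zero_comp]
    exact zero_mem_Zset fr
  by_cases hb0 : b = 0
  · subst hb0
    simp only [AddMonoidHom.comp_zero]
    exact zero_mem_Zset fr
  obtain ⟨a', -, hl, -⟩ := exists_inverse fr hij ha ha0
  obtain ⟨b', -, hbl, -⟩ := exists_inverse fr hjl hb hb0
  obtain ⟨τ3, -, hA3⟩ := neg_mem_Zset fr hij ha
  obtain ⟨τ4, -, hA4⟩ := neg_mem_Zset fr hjl hb
  obtain ⟨τ1, -, hA1⟩ := ha
  obtain ⟨τ2, -, hA2⟩ := hb
  have h := ((hA1.comp hA2).comp hA3).comp hA4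
  refine mem_Zset_of_acts fr hil (fun x hx => ?_) (h.congr fun v => ext_π fr fun n => ?_)
  · simp only [AddMonoidHom.comp_apply] at hx
    have h1 := congrArg a' hx
    rw [hl, map_zero] at h1
    have h2 := congrArg b' h1
    rwa [hbl, map_zero] at h2
  · simp only [Function.comp_apply]
    by_cases hni : n = i
    · subst hni
      simp only [π_T_self, π_T_ne fr hij, π_T_ne fr hij.symm, π_T_ne fr hil.symm, π_T_ne fr hil,
        π_T_ne fr hjl, π_T_ne fr hjl.symm, map_add, map_neg, AddMonoidHom.neg_apply,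
        AddMonoidHom.comp_apply]
      abel
    by_cases hnj : n = j
    · subst hnj
      simp only [π_T_self, π_T_ne fr hij.symm, π_T_ne fr hil.symm, π_T_ne fr hni,
        π_T_ne fr hjl.symm, map_add, map_neg, AddMonoidHom.neg_apply]
      abel
    · simp only [π_T_ne fr hni, π_T_ne fr hnj]

end Cfsg.Agent.AxialDesign
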