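import Cfsg.Agent.Lib.AxialDesign.Elation

/-!
# The group of elations of an axis as a vector space

`E B` is elementary abelian, partitioned by the subgroups `SG B c` of elations with a given centre, of
common order `q`; the number of blocks and the sizes are those of a projective space over `GF(q)`.
-/

set_option autoImplicit false
set_option linter.unusedSectionVars false

open scoped Classical Pointwise
open MulAction

namespace Cfsg.Agent.AxialDesign

namespace Sys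

variable {G P β : Type*} [Group G] [MulAction G P] [MulAction G β] (S : Sys G P β)
  [Finite P] [Finite β] [Finite G] [FaithfulSMul G P]

/-- The elements fixing every block through `c`. -/
def pencil (c : P) : Subgroup G where
  carrier := {g | ∀ X, c ∈ S.pts X → g • X = X}
  one_mem' := fun _ _ => one_smul _ _
  mul_mem' := fun {a b} ha hb X hX => by rw [mul_smul, hb X hX, ha X hX]
  inv_mem' := fun {a} ha X hX => by rw [inv_smul_eq_iff, ha X hX]

/-- The elations with axis `B` and centre `c`. -/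
noncomputable def SG (B : β) (c : P) : Subgroup G := S.E B ⊓ S.pencil c

theorem mem_SG {B : β} {c : P} {σ : G} :
    σ ∈ S.SG B c ↔ σ ∈ S.E B ∧ ∀ X, c ∈ S.pts X → σ • X = X := Iff.rfl

theorem SG_le {B : β} {c : P} : S.SG B c ≤ S.E B := inf_le_left

theorem exists_SG {B : β} {σ : G} (hσ : σ ∈ S.E B) (h1 : σ ≠ 1) :
    ∃ c ∈ S.pts B, σ ∈ S.SG B c := by
  obtain ⟨c, hc, h⟩ := S.exists_centre hσ h1
  exact ⟨c, hc, hσ, fun X hX => (h X).2 hX⟩

theorem SG_fix_iff {B : β} {c : P} {σ : G} (hσ : σ ∈ S.SG B c) (h1 : σ ≠ 1) (X : β) :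
    σ • X = X ↔ c ∈ S.pts X := by
  have heq : {Y | c ∈ S.pts Y} = S.Fb σ := Set.eq_of_subset_of_ncard_le (fun Y hY => hσ.2 Y hY)
    (by rw [S.card_blks, S.card_Fb hσ.1 h1]) (Set.toFinite _)
  exact (Set.ext_iff.1 heq X).symm

theorem centre_mem_axis {B : β} {c : P} {σ : G} (hσ : σ ∈ S.SG B c) (h1 : σ ≠ 1) : c ∈ S.pts B :=
  (S.SG_fix_iff hσ h1 B).1 (S.E_smul_axis hσ.1)

theorem centre_unique {B : β} {c c' : P} {σ : G} (hσ : σ ∈ S.SG B c) (hσ' : σ ∈ S.SG B c')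
    (h1 : σ ≠ 1) : c = c' := by
  by_contra hne
  have h : {X | c ∈ S.pts X ∧ c' ∈ S.pts X} = {X | c ∈ S.pts X} := Set.ext fun X =>
    ⟨And.left, fun hX => ⟨hX, (S.SG_fix_iff hσ' h1 X).1 ((S.SG_fix_iff hσ h1 X).2 hX)⟩⟩
  have e := S.card_pair c c' hne
  rw [h, S.card_blks] at e
  have := S.lam_lt
  omega

theorem conj_mem_SG {B : β} {c : P} {g σ : G} (hσ : σ ∈ S.SG B c) :
    g * σ * g⁻¹ ∈ S.SG (g • B) (g • c) := by
  refine ⟨S.conj_mem_E hσ.1, fun X hX => ?_⟩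
  rw [mul_smul, mul_smul, hσ.2 (g⁻¹ • X) ((S.mem_smul_iff g⁻¹ c X).2 (by rwa [inv_inv])), smul_inv_smul]

theorem map_SG (g : G) (B : β) (c : P) :
    (S.SG B c).map (MulAut.conj g).toMonoidHom = S.SG (g • B) (g • c) := by
  refine SetLike.ext fun σ => ⟨?_, fun hσ => Subgroup.mem_map.2 ⟨g⁻¹ * σ * g, ?_, by simp [mul_assoc]⟩⟩
  · rintro ⟨τ, hτ, rfl⟩
    exact S.conj_mem_SG hτ
  · have := S.conj_mem_SG (g := g⁻¹) hσ
    rwa [inv_inv, inv_smul_smul, inv_smul_smul] at this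

theorem card_SG_conj (g : G) (B : β) (c : P) :
    Nat.card (S.SG (g • B) (g • c)) = Nat.card (S.SG B c) := by
  rw [← S.map_SG]
  exact (Nat.card_congr ((S.SG B c).equivMapOfInjective _ (MulAut.conj g).injective).toEquiv).symm

theorem card_SG_eq {B : β} {c c' : P} (hc : c ∈ S.pts B) (hc' : c' ∈ S.pts B) :
    Nat.card (S.SG B c') = Nat.card (S.SG B c) := by
  obtain ⟨g, hg, rfl⟩ := S.trans_in B c c' hc hc'
  conv_lhs => rw [← hg]
  exact S.card_SG_conj g B c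

include S in
theorem pts_nonempty (B : β) : (S.pts B).Nonempty := by
  rw [← Set.ncard_pos (Set.toFinite _), S.card_pts]
  have := S.two_le_k
  omega

/-- The order of the group of elations with given axis and centre. -/
noncomputable def q (B : β) : ℕ := Nat.card (S.SG B (S.pts_nonempty B).some)

theorem card_SG {B : β} {c : P} (hc : c ∈ S.pts B) : Nat.card (S.SG B c) = S.q B :=
  S.card_SG_eq (S.pts_nonempty B).some_mem hc

theorem two_le_q (B : β) : 2 ≤ S.q B := by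
  obtain ⟨σ, hσ, h1⟩ := S.exists_ne_one_mem_E B
  obtain ⟨c, hc, hσc⟩ := S.exists_SG hσ h1
  rw [← S.card_SG hc]
  exact (Subgroup.one_lt_card_iff_ne_bot _).2 fun h => h1 (Subgroup.mem_bot.1 (h ▸ hσc))

theorem exists_ne_one_mem_SG {B : β} {c : P} (hc : c ∈ S.pts B) : ∃ σ ∈ S.SG B c, σ ≠ 1 := by
  by_contra! h
  have hb : S.SG B c = ⊥ := eq_bot_iff.2 fun σ hσ => Subgroup.mem_bot.2 (h σ hσ)
  have := S.two_le_q B
  rw [← S.card_SG hc, hb, Subgroup.card_bot] at this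
  omega

/-- `U` is a union of groups `SG B c`. -/
def Flat (B : β) (U : Subgroup G) : Prop :=
  U ≤ S.E B ∧ ∀ c, (∃ σ ∈ U, σ ≠ 1 ∧ σ ∈ S.SG B c) → S.SG B c ≤ U

theorem card_flat {B : β} {U : Subgroup G} (hU : S.Flat B U) :
    Nat.card U = 1 + {c | c ∈ S.pts B ∧ S.SG B c ≤ U}.ncard * (S.q B - 1) := by
  have := Fintype.ofFinite G
  have := Fintype.ofFinite P
  let T : Finset P := Finset.univ.filter fun c => c ∈ S.pts B ∧ S.SG B c ≤ U
  let F : P → Finset G := fun c => (Finset.univ.filter fun σ => σ ∈ S.SG B c).erase 1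
  have hsplit : (Finset.univ.filter fun σ => σ ∈ U).erase 1 = T.biUnion F := by
    ext σ
    simp only [T, F, Finset.mem_erase, Finset.mem_filter, Finset.mem_univ, true_and, Finset.mem_biUnion]
    constructor
    · rintro ⟨h1, hσ⟩
      obtain ⟨c, hc, hσc⟩ := S.exists_SG (hU.1 hσ) h1
      exact ⟨c, ⟨hc, hU.2 c ⟨σ, hσ, h1, hσc⟩⟩, h1, hσc⟩
    · rintro ⟨c, ⟨-, hle⟩, h1, hσc⟩
      exact ⟨h1, hle hσc⟩
  have hdisj : (T : Set P).PairwiseDisjoint F := fun c _ c' _ hne =>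
    Finset.disjoint_left.2 fun σ h h' => by
      simp only [F, Finset.mem_erase, Finset.mem_filter, Finset.mem_univ, true_and] at h h'
      exact hne (S.centre_unique h.2 h'.2 h.1)
  have hcard : ∀ W : Subgroup G, (Finset.univ.filter fun σ => σ ∈ W).card = Nat.card W := fun W => by
    rw [Nat.card_eq_fintype_card, Fintype.card_subtype]
  have e := congrArg Finset.card hsplit
  rw [Finset.card_biUnion hdisj, Finset.card_erase_of_mem (by simp [U.one_mem]), hcard,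
    Finset.sum_congr rfl (g := fun _ => S.q B - 1) fun c hc => by
      simp only [T, Finset.mem_filter, Finset.mem_univ, true_and] at hc
      simp only [F]
      rw [Finset.card_erase_of_mem (by simp [(S.SG B c).one_mem]), hcard, S.card_SG hc.1],
    Finset.sum_const, smul_eq_mul] at e
  have hT : T.card = {c | c ∈ S.pts B ∧ S.SG B c ≤ U}.ncard := by
    rw [← Set.ncard_coe_finset]
    congr 1; ext c; simp [T]
  rw [← hT]
  have : 0 < Nat.card U := Nat.card_pos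
  omega

theorem flat_E (B : β) : S.Flat B (S.E B) := ⟨le_rfl, fun _ _ => S.SG_le⟩

theorem flat_Ec (B C : β) : S.Flat B (S.Ec B C) :=
  ⟨S.Ec_le, fun _ ⟨σ, hσ, h1, hσc⟩ _ hτ =>
    ⟨hτ.1, hτ.2 C ((S.SG_fix_iff hσc h1 C).1 hσ.2)⟩⟩

theorem SG_le_Ec_iff {B C : β} {c : P} (hc : c ∈ S.pts B) : S.SG B c ≤ S.Ec B C ↔ c ∈ S.pts C := by
  refine ⟨fun h => ?_, fun h σ hσ => ⟨hσ.1, hσ.2 C h⟩⟩
  obtain ⟨σ, hσ, h1⟩ := S.exists_ne_one_mem_SG hc
  exact (S.SG_fix_iff hσ h1 C).1 (h hσ).2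

theorem card_E (B : β) : Nat.card (S.E B) = 1 + S.k * (S.q B - 1) := by
  rw [S.card_flat (S.flat_E B), ← S.card_pts B]
  congr 2
  congr 1
  ext c
  exact ⟨And.left, fun hc => ⟨hc, S.SG_le⟩⟩

theorem card_Ec {B C : β} (h : B ≠ C) : Nat.card (S.Ec B C) = 1 + S.lam * (S.q B - 1) := by
  rw [S.card_flat (S.flat_Ec B C), ← S.card_inter C B h.symm]
  congr 2
  congr 1
  ext c
  exact ⟨fun ⟨h1, h2⟩ => ⟨(S.SG_le_Ec_iff h1).1 h2, h1⟩, fun ⟨h1, h2⟩ => ⟨h2, (S.SG_le_Ec_iff h2).2 h1⟩⟩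

theorem SG_normal {B : β} {c : P} {σ ε : G} (hσ : σ ∈ S.SG B c) (hε : ε ∈ S.E B) :
    ε * σ * ε⁻¹ ∈ S.SG B c := by
  by_cases h1 : σ = 1
  · simp [h1, (S.SG B c).one_mem]
  have h := S.conj_mem_SG (g := ε) hσ
  rwa [S.E_smul_axis hε, S.E_fix hε (S.centre_mem_axis hσ h1)] at h

theorem commute_SG {B : β} {c c' : P} (hne : c ≠ c') {σ τ : G} (hσ : σ ∈ S.SG B c)
    (hτ : τ ∈ S.SG B c') : σ * τ = τ * σ := by
  have h1 : σ * τ * σ⁻¹ * τ⁻¹ ∈ S.SG B c := by
    rw [show σ * τ * σ⁻¹ * τ⁻¹ = σ * (τ * σ⁻¹ * τ⁻¹) by group]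
    exact (S.SG B c).mul_mem hσ (S.SG_normal ((S.SG B c).inv_mem hσ) hτ.1)
  have h2 : σ * τ * σ⁻¹ * τ⁻¹ ∈ S.SG B c' :=
    (S.SG B c').mul_mem (S.SG_normal hτ hσ.1) ((S.SG B c').inv_mem hτ)
  have h : σ * τ * σ⁻¹ * τ⁻¹ = 1 := by_contra fun h => hne (S.centre_unique h1 h2 h)
  calc σ * τ = (σ * τ * σ⁻¹ * τ⁻¹) * (τ * σ) := by group
    _ = τ * σ := by rw [h, one_mul]

theorem exists_other (B : β) (c : P) : ∃ c' ∈ S.pts B, c' ≠ c :=
  Set.exists_ne_of_one_lt_ncard (by rw [S.card_pts]; exact S.two_le_k) c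

theorem E_comm {B : β} {σ τ : G} (hσ : σ ∈ S.E B) (hτ : τ ∈ S.E B) : σ * τ = τ * σ := by
  by_cases h1 : σ = 1
  · simp [h1]
  by_cases h2 : τ = 1
  · simp [h2]
  obtain ⟨c, -, hσc⟩ := S.exists_SG hσ h1
  obtain ⟨d, -, hτd⟩ := S.exists_SG hτ h2
  by_cases hcd : c = d
  · subst hcd
    obtain ⟨c', hc', hne⟩ := S.exists_other B c
    obtain ⟨ρ, hρ, hρ1⟩ := S.exists_ne_one_mem_SG hc'
    have hρc : ρ ∉ S.SG B c := fun h => hne (S.centre_unique hρ h hρ1)
    have hτρc : τ * ρ ∉ S.SG B c := fun h => hρc (by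
      have := (S.SG B c).mul_mem ((S.SG B c).inv_mem hτd) h
      rwa [inv_mul_cancel_left] at this)
    have hτρ1 : τ * ρ ≠ 1 := fun h => hτρc (by rw [h]; exact (S.SG B c).one_mem)
    obtain ⟨e, -, he⟩ := S.exists_SG ((S.E B).mul_mem hτ hρ.1) hτρ1
    have hec : c ≠ e := fun h => hτρc (h ▸ he)
    have k1 := S.commute_SG hec hσc he
    have k2 := S.commute_SG hne.symm hσc hρ
    have : σ * τ * ρ = τ * σ * ρ := by rw [mul_assoc, k1, mul_assoc, ← k2, ← mul_assoc]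
    exact mul_right_cancel this
  · exact S.commute_SG hcd hσc hτd

theorem exists_prime_exp (B : β) : ∃ p, p.Prime ∧ ∀ σ ∈ S.E B, σ ^ p = 1 := by
  obtain ⟨c, hc⟩ := S.pts_nonempty B
  obtain ⟨p, hp, hdvd⟩ := Nat.exists_prime_and_dvd (n := Nat.card (S.SG B c))
    (by rw [S.card_SG hc]; have := S.two_le_q B; omega)
  have : Fact p.Prime := ⟨hp⟩
  obtain ⟨⟨σ, hσ⟩, hord⟩ := exists_prime_orderOf_dvd_card' p hdvd
  have hσ1 : σ ≠ 1 := fun h => by
    have : orderOf (⟨σ, hσ⟩ : S.SG B c) = 1 := orderOf_eq_one_iff.2 (Subtype.ext h)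
    rw [hord] at this
    exact hp.ne_one this
  have hσp : σ ^ p = 1 := by
    have := pow_orderOf_eq_one (⟨σ, hσ⟩ : S.SG B c)
    rw [hord] at this
    exact congrArg Subtype.val this
  -- an element of exponent `p` forces it on all elations with a different centre
  have key : ∀ {c c' : P} {σ ρ : G}, c ≠ c' → σ ∈ S.SG B c → σ ≠ 1 → σ ^ p = 1 → ρ ∈ S.SG B c' →
      ρ ^ p = 1 := by
    intro c c' σ ρ hne hσ hσ1 hσp hρ
    by_cases hρ1 : ρ = 1
    · rw [hρ1, one_pow]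
    have hnot : σ * ρ ∉ S.SG B c' := fun h => by
      have hh := (S.SG B c').mul_mem h ((S.SG B c').inv_mem hρ)
      rw [mul_inv_cancel_right] at hh
      exact hne (S.centre_unique hσ hh hσ1)
    obtain ⟨d, -, hd⟩ := S.exists_SG ((S.E B).mul_mem hσ.1 hρ.1)
      (fun h => hnot (by rw [h]; exact (S.SG B c').one_mem))
    have hpow : (σ * ρ) ^ p = ρ ^ p := by
      rw [Commute.mul_pow (S.commute_SG hne hσ hρ) p, hσp, one_mul]
    by_contra h
    have h1 : ρ ^ p ∈ S.SG B d := hpow ▸ (S.SG B d).pow_mem hd p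
    exact hnot (S.centre_unique h1 ((S.SG B c').pow_mem hρ p) h ▸ hd)
  refine ⟨p, hp, fun τ hτ => ?_⟩
  by_cases hτ1 : τ = 1
  · rw [hτ1, one_pow]
  obtain ⟨d, -, hτd⟩ := S.exists_SG hτ hτ1
  by_cases hcd : c = d
  · obtain ⟨c', hc', hne⟩ := S.exists_other B c
    obtain ⟨ρ, hρ, hρ1⟩ := S.exists_ne_one_mem_SG hc'
    exact key (hcd ▸ hne) hρ hρ1 (key hne.symm hσ hσ1 hσp hρ) hτd
  · exact key hcd hσ hσ1 hσp hτd

theorem card_orbit_blk {B C : β} :
    (orbit (S.E B) C).ncard * Nat.card (S.Ec B C) = Nat.card (S.E B) := by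
  have h : Nat.card (stabilizer (S.E B) C) = Nat.card (S.Ec B C) :=
    Nat.card_congr ⟨fun σ => ⟨σ.1.1, σ.1.2, σ.2⟩, fun σ => ⟨⟨σ.1, σ.2.1⟩, σ.2.2⟩,
      fun _ => rfl, fun _ => rfl⟩
  rw [← index_stabilizer, mul_comm, ← h]
  exact (stabilizer (S.E B) C).card_mul_index

theorem sizes (B : β) :
    (∀ C, B ≠ C → Nat.card (S.E B) = S.q B * Nat.card (S.Ec B C)) ∧ S.k = 1 + S.q B * S.lam ∧
      Nat.card P = 1 + S.k * S.q B := by
  obtain ⟨C₀, hC₀⟩ := S.exists_blk_ne B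
  set f := Nat.card (S.Ec B C₀) with hf
  have hfpos : 0 < f := Nat.card_pos
  set u := (orbit (S.E B) C₀).ncard with hu
  have huf : u * f = Nat.card (S.E B) := S.card_orbit_blk
  have horb : ∀ C, C ≠ B → (orbit (S.E B) C).ncard = u := fun C hC => by
    have h := S.card_orbit_blk (B := B) (C := C)
    rw [S.card_Ec_eq hC₀.symm hC.symm, ← hf, ← huf] at h
    exact Nat.eq_of_mul_eq_mul_right hfpos h
  obtain ⟨c, hc⟩ := S.pts_nonempty B
  have hdvd : u ∣ S.k - 1 := by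
    have := Fintype.ofFinite β
    let T : Finset β := (Finset.univ.filter fun X => c ∈ S.pts X).erase B
    have hT : T.card = S.k - 1 := by
      rw [Finset.card_erase_of_mem (by simp [hc])]
      congr 1
      rw [← S.card_blks c, Set.ncard_eq_toFinset_card']
      congr 1
      ext X
      simp
    rw [← hT, Finset.card_eq_sum_card_image (fun X => orbit (S.E B) X) T]
    refine Finset.dvd_sum fun O hO => ?_
    obtain ⟨X, hX, rfl⟩ := Finset.mem_image.1 hO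
    simp only [T, Finset.mem_erase, Finset.mem_filter, Finset.mem_univ, true_and] at hX
    rw [← horb X hX.1, Set.ncard_eq_toFinset_card']
    refine dvd_of_eq (congrArg Finset.card (Finset.ext fun Y => ?_))
    simp only [T, Finset.mem_erase, Finset.mem_filter, Finset.mem_univ, true_and, Set.mem_toFinset]
    refine ⟨?_, fun h => orbit_eq_iff.1 h.2⟩
    rintro ⟨ε, rfl⟩
    exact ⟨⟨S.smul_ne_axis ε.2 hX.1, (S.mem_smul_of_fix (S.E_fix ε.2 hc)).2 hX.2⟩, orbit_smul ε X⟩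
  have hle : S.q B ≤ u := by
    obtain ⟨d, hdB, hdC⟩ : ∃ d ∈ S.pts B, d ∉ S.pts C₀ := by
      by_contra! hall
      exact hC₀ (S.pts_inj (Set.eq_of_subset_of_ncard_le hall (by rw [S.card_pts, S.card_pts])
        (Set.toFinite _)).symm)
    have hinj : Function.Injective
        (fun x : S.SG B d × S.Ec B C₀ => (⟨x.1.1 * x.2.1, (S.E B).mul_mem x.1.2.1 x.2.2.1⟩ : S.E B)) := by
      rintro ⟨⟨a, ha⟩, ⟨b, hb⟩⟩ ⟨⟨a', ha'⟩, ⟨b', hb'⟩⟩ h
      have h' : a * b = a' * b' := congrArg Subtype.val h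
      have hm : a'⁻¹ * a = b' * b⁻¹ := by
        rw [inv_mul_eq_iff_eq_mul, ← mul_assoc, ← h', mul_inv_cancel_right]
      have h1 : a'⁻¹ * a = 1 := by
        by_contra h1
        refine hdC ((S.SG_fix_iff ((S.SG B d).mul_mem ((S.SG B d).inv_mem ha') ha) h1 C₀).1 ?_)
        rw [hm]
        exact ((S.Ec B C₀).mul_mem hb' ((S.Ec B C₀).inv_mem hb)).2
      obtain rfl : a = a' := (eq_of_inv_mul_eq_one h1).symm
      obtain rfl : b = b' := mul_left_cancel h'
      rfl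
    have h := Nat.card_le_card_of_injective _ hinj
    rw [Nat.card_prod, S.card_SG hdB, ← hf, ← huf] at h
    exact Nat.le_of_mul_le_mul_right h hfpos
  have hq := S.two_le_q B
  have hk := S.two_le_k
  have hE := S.card_E B
  have hEc := S.card_Ec hC₀.symm
  have hq0 : u = S.q B := by
    have h1 : Nat.card (S.E B) = S.q B + (S.k - 1) * (S.q B - 1) := by
      rw [hE, Nat.sub_one_mul]
      have : S.q B - 1 ≤ S.k * (S.q B - 1) := Nat.le_mul_of_pos_left _ (by omega)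
      omega
    have h2 : u ∣ S.q B := by
      have h3 : u ∣ Nat.card (S.E B) := ⟨f, huf.symm⟩
      rw [h1] at h3
      exact (Nat.dvd_add_left (hdvd.mul_right _)).1 h3
    exact le_antisymm (Nat.le_of_dvd (by omega) h2) hle
  rw [hq0] at huf
  have hk' : S.k = 1 + S.q B * S.lam := by
    rw [hE, hf, hEc] at huf
    obtain ⟨r, hr⟩ : ∃ r, S.q B = r + 2 := ⟨S.q B - 2, by omega⟩
    rw [hr, show r + 2 - 1 = r + 1 by omega] at huf
    rw [hr]
    nlinarith
  refine ⟨fun C hC => ?_, hk', ?_⟩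
  · rw [S.card_Ec_eq hC₀.symm hC, ← hf, huf]
  · have h := S.lam_mul
    have e : S.lam * (Nat.card P - 1) = S.lam * (S.k * S.q B) := by
      rw [h, show S.k - 1 = S.q B * S.lam by omega]
      ring
    have := Nat.eq_of_mul_eq_mul_left S.lam_pos e
    have := S.two_le_compl
    omega

theorem card_E' (B : β) : Nat.card (S.E B) = ((S.pts B)ᶜ : Set P).ncard := by
  obtain ⟨-, -, hn⟩ := S.sizes B
  rw [Set.ncard_compl, S.card_pts, S.card_E]
  have hq := S.two_le_q B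
  obtain ⟨r, hr⟩ : ∃ r, S.q B = r + 1 := ⟨S.q B - 1, by omega⟩
  rw [hr, mul_add, mul_one] at hn
  rw [hr, Nat.add_sub_cancel]
  omega

/-- `E B` is regular on the points off `B`. -/
theorem E_regular {B : β} {x y : P} (hx : x ∉ S.pts B) (hy : y ∉ S.pts B) :
    ∃ ε ∈ S.E B, ε • x = y := by
  have hout : ∀ σ : S.E B, (σ : G) • x ∉ S.pts B := fun σ h => hx (by
    have h' : (σ : G)⁻¹ • (σ : G) • x = (σ : G) • x := S.E_fix ((S.E B).inv_mem σ.2) h
    rw [inv_smul_smul] at h'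
    rw [h']; exact h)
  let f : S.E B → ((S.pts B)ᶜ : Set P) := fun σ => ⟨(σ : G) • x, hout σ⟩
  have hinj : Function.Injective f := fun σ τ h => by
    have h' : (σ : G) • x = (τ : G) • x := congrArg Subtype.val h
    refine Subtype.ext (eq_of_inv_mul_eq_one (S.E_semireg ((S.E B).mul_mem ((S.E B).inv_mem τ.2) σ.2) hx
      (by rw [mul_smul, h', inv_smul_smul]))).symm
  obtain ⟨σ, hσ⟩ := ((Nat.bijective_iff_injective_and_card f).2
    ⟨hinj, by rw [S.card_E', Nat.card_coe_set_eq]⟩).2 ⟨y, hy⟩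
  exact ⟨σ, σ.2, congrArg Subtype.val hσ⟩

end Sys

end Cfsg.Agent.AxialDesign
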